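/-
Products and coproducts in derived categories via K-injective complexes.
-/
import Mathlib.Algebra.Homology.DerivedCategory.KInjective
import Mathlib.Algebra.Homology.HomologicalComplexLimits
import Mathlib.Algebra.Homology.HomotopyCategory.MappingCone
import Mathlib.CategoryTheory.Limits.Preserves.Shapes.Products

universe w' w v u

open CategoryTheory CategoryTheory.Limits

namespace Groth.Agent.DHA.KInj

variable {A : Type u} [Category.{v} A] [Abelian A] [HasDerivedCategory.{w} A]

open DerivedCategory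

lemma Q_map_surjective (K L : CochainComplex A ℤ) [L.IsKInjective]
    (φ : Q.obj K ⟶ Q.obj L) : ∃ f : K ⟶ L, Q.map f = φ := by
  obtain ⟨g, hg⟩ := (CochainComplex.IsKInjective.Qh_map_bijective
    ((HomotopyCategory.quotient _ _).obj K) L).2
      ((quotientCompQhIso A).hom.app K ≫ φ ≫ (quotientCompQhIso A).inv.app L)
  obtain ⟨f, rfl⟩ := (HomotopyCategory.quotient _ _).map_surjective g
  refine ⟨f, ?_⟩
  rw [← cancel_epi ((quotientCompQhIso A).hom.app K),
    ← cancel_mono ((quotientCompQhIso A).inv.app L), Category.assoc, Category.assoc, ← hg]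
  erw [← (quotientCompQhIso A).hom.naturality_assoc f]
  simp

lemma Q_map_eq_of_homotopy {K L : CochainComplex A ℤ} {f g : K ⟶ L} (h : Homotopy f g) :
    Q.map f = Q.map g := by
  rw [← cancel_epi ((quotientCompQhIso A).hom.app K)]
  rw [← (quotientCompQhIso A).hom.naturality f, ← (quotientCompQhIso A).hom.naturality g]
  show Qh.map ((HomotopyCategory.quotient _ _).map f) ≫ _ = Qh.map ((HomotopyCategory.quotient _ _).map g) ≫ _
  rw [HomotopyCategory.eq_of_homotopy _ _ h]

lemma homotopy_of_Q_map_eq {K L : CochainComplex A ℤ} [L.IsKInjective] {f g : K ⟶ L}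
    (h : Q.map f = Q.map g) : Nonempty (Homotopy f g) := by
  refine ⟨HomotopyCategory.homotopyOfEq _ _
    ((CochainComplex.IsKInjective.Qh_map_bijective _ L).1 ?_)⟩
  rw [← cancel_mono ((quotientCompQhIso A).hom.app L)]
  show (HomotopyCategory.quotient _ _ ⋙ Qh).map f ≫ _ =
    (HomotopyCategory.quotient _ _ ⋙ Qh).map g ≫ _
  rw [(quotientCompQhIso A).hom.naturality f, (quotientCompQhIso A).hom.naturality g, h]

variable {T : Type w'}

/-- Products of K-injective complexes are products in the derived category. -/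
lemma hasProduct_of_isKInjective (I : T → CochainComplex A ℤ) [∀ t, (I t).IsKInjective]
    [HasProduct I] : HasProduct (fun t => Q.obj (I t)) := by
  have : (∏ᶜ I).IsKInjective := by
    refine ⟨fun {K} f hK => ?_⟩
    have key : ∀ t, ∃ g : CochainComplex.mappingCone (𝟙 K) ⟶ I t,
        CochainComplex.mappingCone.inr (𝟙 K) ≫ g = f ≫ Pi.π I t := by
      intro t
      obtain ⟨α, hα⟩ := CochainComplex.HomComplex.Cochain.equivHomotopy _ _
        (CochainComplex.IsKInjective.homotopyZero (f ≫ Pi.π I t) hK)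
      refine ⟨CochainComplex.mappingCone.desc _ α (f ≫ Pi.π I t) ?_,
        CochainComplex.mappingCone.inr_desc _ _ _ _⟩
      simpa using hα.symm
    choose g hg using key
    have hf : f = CochainComplex.mappingCone.inr (𝟙 K) ≫ Pi.lift g := by
      refine Pi.hom_ext _ _ fun t => ?_
      simp [hg]
    rw [hf]
    exact ⟨((Homotopy.ofEq (by simp)).trans
      ((((CochainComplex.mappingCone.homotopyToZeroOfId K).compLeft
        (CochainComplex.mappingCone.inr (𝟙 K))).compRight (Pi.lift g)))).trans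
          (Homotopy.ofEq (by simp))⟩
  choose lf hlf using fun (K : CochainComplex A ℤ) t (φ : Q.obj K ⟶ Q.obj (I t)) =>
    Q_map_surjective K (I t) φ
  have huniq : ∀ {K : CochainComplex A ℤ} (f : K ⟶ ∏ᶜ I),
      (∀ t, Q.map (f ≫ Pi.π I t) = 0) → Q.map f = 0 := by
    intro K f hf
    have key : ∀ t, ∃ g : CochainComplex.mappingCone (𝟙 K) ⟶ I t,
        CochainComplex.mappingCone.inr (𝟙 K) ≫ g = f ≫ Pi.π I t := by
      intro t
      obtain ⟨h⟩ := homotopy_of_Q_map_eq (f := f ≫ Pi.π I t) (g := 0)
        (by rw [hf t, Functor.map_zero])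
      obtain ⟨α, hα⟩ := CochainComplex.HomComplex.Cochain.equivHomotopy _ _ h
      refine ⟨CochainComplex.mappingCone.desc _ α (f ≫ Pi.π I t) ?_,
        CochainComplex.mappingCone.inr_desc _ _ _ _⟩
      simpa using hα.symm
    choose g hg using key
    have hfac : f = CochainComplex.mappingCone.inr (𝟙 K) ≫ 𝟙 _ ≫ Pi.lift g := by
      refine Pi.hom_ext _ _ fun t => ?_
      simp [hg]
    rw [hfac, Functor.map_comp, Functor.map_comp, Q_map_eq_of_homotopy
      (CochainComplex.mappingCone.homotopyToZeroOfId _), Functor.map_zero, zero_comp, comp_zero]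
  refine ⟨⟨⟨Fan.mk (Q.obj (∏ᶜ I)) (fun t => Q.map (Pi.π I t)), Fan.IsLimit.mk _
    (fun s => (Q.objObjPreimageIso s.pt).inv ≫
      Q.map (Pi.lift fun t => lf (Q.objPreimage s.pt) t ((Q.objObjPreimageIso s.pt).hom ≫ s.proj t)))
    ?_ ?_⟩⟩⟩
  · intro s t
    show ((Q.objObjPreimageIso s.pt).inv ≫ _) ≫ Q.map (Pi.π I t) = _
    rw [Category.assoc, ← Functor.map_comp, Pi.lift_π, hlf, Iso.inv_hom_id_assoc]
  · intro s m hm
    rw [← cancel_epi (Q.objObjPreimageIso s.pt).hom, Iso.hom_inv_id_assoc]
    obtain ⟨f, hf⟩ := Q_map_surjective (Q.objPreimage s.pt) (∏ᶜ I)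
      ((Q.objObjPreimageIso s.pt).hom ≫ m)
    rw [← hf, ← sub_eq_zero, ← Functor.map_sub]
    refine huniq _ fun t => ?_
    rw [Functor.map_comp, Functor.map_sub, Preadditive.sub_comp, ← Functor.map_comp, ← Functor.map_comp,
      Pi.lift_π, hlf, Functor.map_comp, hf, Category.assoc, sub_eq_zero]
    exact congrArg ((Q.objObjPreimageIso s.pt).hom ≫ ·) (hm t)

/-- If every object has a K-injective representative, coproducts of complexes are coproducts in
the derived category. -/
theorem nonempty_isColimit_Q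
    (hA : ∀ K : CochainComplex A ℤ, ∃ (I : CochainComplex A ℤ) (f : K ⟶ I),
      I.IsKInjective ∧ QuasiIso f)
    [HasColimitsOfShape (Discrete T) A] (K : T → CochainComplex A ℤ) :
    Nonempty (IsColimit (Cofan.mk (Q.obj (∐ K)) (fun t => Q.map (Sigma.ι K t)))) := by
  have hrep : ∀ Y : DerivedCategory A, ∃ (I : CochainComplex A ℤ) (_ : I.IsKInjective),
      Nonempty (Q.obj I ≅ Y) := by
    intro Y
    obtain ⟨I, f, hI, hf⟩ := hA (Q.objPreimage Y)
    exact ⟨I, hI, ⟨(asIso (Q.map f)).symm ≪≫ Q.objObjPreimageIso Y⟩⟩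
  choose I hI e using hrep
  let e := fun Y => (e Y).some
  have huniq : ∀ {Y : DerivedCategory A} (φ : Q.obj (∐ K) ⟶ Y),
      (∀ t, Q.map (Sigma.ι K t) ≫ φ = 0) → φ = 0 := by
    intro Y φ hφ
    obtain ⟨f, hf⟩ := Q_map_surjective (∐ K) (I Y) (φ ≫ (e Y).inv)
    rw [← cancel_mono (e Y).inv, zero_comp, ← hf]
    have hh : ∀ t, Nonempty (Homotopy (Sigma.ι K t ≫ f) 0) := fun t => homotopy_of_Q_map_eq
      (by rw [Functor.map_comp, hf, ← Category.assoc, hφ, zero_comp, Functor.map_zero])
    let H := fun t => (hh t).some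
    let hc := fun n => isColimitCofanMkObjOfIsColimit (HomologicalComplex.eval A (ComplexShape.up ℤ) n)
      K _ (coproductIsCoproduct K)
    let D : ∀ i j, (∐ K).X i ⟶ (I Y).X j := fun i j =>
      Cofan.IsColimit.desc (hc i) fun t => (H t).hom i j
    have hD : ∀ t i j, (Sigma.ι K t).f i ≫ D i j = (H t).hom i j := fun t i j =>
      Cofan.IsColimit.fac (hc i) _ t
    have hext : ∀ {Z : A} {i : ℤ} {a b : (∐ K).X i ⟶ Z},
        (∀ t, (Sigma.ι K t).f i ≫ a = (Sigma.ι K t).f i ≫ b) → a = b :=
      fun {Z i a b} h => Cofan.IsColimit.hom_ext (hc i) _ _ h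
    let HH : Homotopy f 0 :=
      { hom := D
        zero := fun i j hij => hext fun t => by rw [hD, (H t).zero i j hij, comp_zero]
        comm := fun p => hext fun t => by
          have h := (H t).comm p
          rw [dNext_eq _ (show (ComplexShape.up ℤ).Rel p (p + 1) from rfl),
            prevD_eq _ (show (ComplexShape.up ℤ).Rel (p - 1) p from show p - 1 + 1 = p by omega)]
            at h
          rw [dNext_eq D (show (ComplexShape.up ℤ).Rel p (p + 1) from rfl),
            prevD_eq D (show (ComplexShape.up ℤ).Rel (p - 1) p from show p - 1 + 1 = p by omega)]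
          simp only [HomologicalComplex.zero_f, add_zero, HomologicalComplex.comp_f] at h ⊢
          rw [h, Preadditive.comp_add, (Sigma.ι K t).comm_assoc, hD, ← Category.assoc
            ((Sigma.ι K t).f p), hD] }
    rw [Q_map_eq_of_homotopy HH, Functor.map_zero]
  refine ⟨Cofan.IsColimit.mk _
    (fun s => Q.map (Sigma.desc fun t =>
      (Q_map_surjective (K t) (I s.pt) (s.inj t ≫ (e s.pt).inv)).choose) ≫ (e s.pt).hom)
    ?_ ?_⟩
  · intro s t
    show Q.map (Sigma.ι K t) ≫ _ = _
    rw [← Functor.map_comp_assoc, Sigma.ι_desc, (Q_map_surjective _ _ _).choose_spec,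
      Category.assoc, Iso.inv_hom_id, Category.comp_id]
  · intro s m hm
    refine sub_eq_zero.1 (huniq _ fun t => ?_)
    have h1 := hm t
    change Q.map (Sigma.ι K t) ≫ m = _ at h1
    rw [Preadditive.comp_sub, ← Functor.map_comp_assoc, Sigma.ι_desc,
      (Q_map_surjective _ _ _).choose_spec, h1, Category.assoc, Iso.inv_hom_id, Category.comp_id,
      sub_self]

/-- If every object has a K-injective representative, `D(A)` has coproducts. -/
lemma hasCoproduct_of_enough_kInjective
    (hA : ∀ K : CochainComplex A ℤ, ∃ (I : CochainComplex A ℤ) (f : K ⟶ I),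
      I.IsKInjective ∧ QuasiIso f)
    [HasColimitsOfShape (Discrete T) A] (X : T → DerivedCategory A) : HasCoproduct X := by
  obtain ⟨hc⟩ := nonempty_isColimit_Q hA (fun t => Q.objPreimage (X t))
  have : HasCoproduct (fun t => Q.obj (Q.objPreimage (X t))) := ⟨⟨⟨_, hc⟩⟩⟩
  exact hasColimit_of_iso (Discrete.natIso fun t => (Q.objObjPreimageIso (X t.as)).symm :
    Discrete.functor X ≅ Discrete.functor (fun t => Q.obj (Q.objPreimage (X t))))

end Groth.Agent.DHA.KInj
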