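/-
Monomorphisms which are quasi-isomorphisms are exactly the maps with the left lifting property
with respect to degreewise epimorphisms with injective K-injective kernel
(in an abelian category with enough injectives).
-/
import Mathlib.Algebra.Homology.ModelCategory.Injective
import Mathlib.Algebra.Homology.Double

universe v u

open CategoryTheory CategoryTheory.Limits CategoryTheory.Abelian CochainComplex ZeroObject

namespace Groth.Agent.DHA.KInj

section ToDouble

open HomologicalComplex

variable {C : Type u} [Category.{v} C] [HasZeroMorphisms C] [HasZeroObject C]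
  {X₀ X₁ : C} {f : X₀ ⟶ X₁} {ι : Type*} {c : ComplexShape ι}
  {i₀ i₁ : ι} (hi₀₁ : c.Rel i₀ i₁) (h : i₀ ≠ i₁) {K : HomologicalComplex C c}
  (φ₀ : K.X i₀ ⟶ X₀) (φ₁ : K.X i₁ ⟶ X₁) (comm : φ₀ ≫ f = K.d i₀ i₁ ≫ φ₁)
  (hφ : ∀ k, c.Rel k i₀ → K.d k i₀ ≫ φ₀ = 0)

open scoped Classical in
/-- Constructor for morphisms to a complex in two degrees -/
noncomputable def mkHomToDouble : K ⟶ double f hi₀₁ where
  f k :=
    if hk₀ : k = i₀ then
      eqToHom (by rw [hk₀]) ≫ φ₀ ≫ (doubleXIso₀ f hi₀₁).inv ≫ eqToHom (by rw [hk₀])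
    else if hk₁ : k = i₁ then
      eqToHom (by rw [hk₁]) ≫ φ₁ ≫ (doubleXIso₁ f hi₀₁ h).inv ≫ eqToHom (by rw [hk₁])
    else 0
  comm' k₀ k₁ hk := by
    by_cases h₁ : k₁ = i₁
    · subst h₁
      obtain rfl := c.prev_eq hk hi₀₁
      simp [dif_neg h.symm, double_d f hi₀₁ h, reassoc_of% comm]
    · by_cases h₀ : k₁ = i₀
      · subst h₀
        rw [double_d_eq_zero₁ _ _ _ _ h, comp_zero]
        simp [reassoc_of% (hφ k₀ hk)]
      · apply (isZero_double_X f hi₀₁ k₁ h₀ h₁).eq_of_tgt

@[simp]
lemma mkHomToDouble_f₀ :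
    (mkHomToDouble hi₀₁ h φ₀ φ₁ comm hφ).f i₀ = φ₀ ≫ (doubleXIso₀ f hi₀₁).inv := by
  simp [mkHomToDouble]

@[simp]
lemma mkHomToDouble_f₁ :
    (mkHomToDouble hi₀₁ h φ₀ φ₁ comm hφ).f i₁ = φ₁ ≫ (doubleXIso₁ f hi₀₁ h).inv := by
  simp [mkHomToDouble, dif_neg h.symm]

end ToDouble

variable {A : Type u} [Category.{v} A] [Abelian A]

/-- mono quasi-isomorphisms -/
abbrev monoQis (A : Type u) [Category.{v} A] [Abelian A] :
    MorphismProperty (CochainComplex A ℤ) :=
  MorphismProperty.monomorphisms _ ⊓ HomologicalComplex.quasiIso A _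

/-- degreewise epimorphisms with injective, K-injective kernel -/
def fibK (A : Type u) [Category.{v} A] [Abelian A] :
    MorphismProperty (CochainComplex A ℤ) :=
  fun _ _ p => degreewiseEpiWithInjectiveKernel p ∧ IsKInjective (kernel p)

open HomComplex in
lemma hasLiftingProperty {K L X Y : CochainComplex A ℤ} (i : K ⟶ L) (p : X ⟶ Y) [Mono i]
    [QuasiIso i] (hp : fibK A p) : HasLiftingProperty i p where
  sq_hasLift {t b} sq := by
    obtain ⟨hp, hK⟩ := hp
    have sq' (n : ℤ) : CommSq (t.f n) (i.f n) (p.f n) (b.f n) :=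
      (sq.map (HomologicalComplex.eval _ _ n))
    have (n : ℤ) : (sq' n).HasLift := by
      have := (hp n).hasLiftingProperty (i.f n)
      infer_instance
    let β : Cocycle (cokernel i) (kernel p) 1 :=
      Lifting.cocycle₁ sq (fun n ↦ ⟨(sq' n).lift, (sq' n).fac_left, (sq' n).fac_right⟩)
        (cokernelIsCokernel i) (kernelIsKernel p) (hπ := by simp) (hι := by simp)
    obtain ⟨α, hα⟩ : ∃ (α : Cochain (cokernel i) (kernel p) 0), δ 0 1 α = β.1 := by
      refine IsKInjective.eq_δ_of_cocycle β ?_ 0 (by simp)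
      have h : (ShortComplex.mk _ _ (cokernel.condition i)).ShortExact :=
        { exact := ShortComplex.exact_cokernel i }
      exact h.acyclic_X₃ ‹_›
    exact Lifting.hasLift sq _ (cokernelIsCokernel _) (kernelIsKernel _) α hα

lemma monoQis_le_llp : monoQis A ≤ (fibK A).llp := by
  rintro K L i ⟨hi, hi'⟩ X Y p hp
  have : Mono i := hi
  have : QuasiIso i := hi'
  exact hasLiftingProperty i p hp

lemma isKInjective_double {J₀ J₁ : A} [Injective J₀] [Injective J₁] (f : J₀ ⟶ J₁) {a b : ℤ}
    (hab : (ComplexShape.up ℤ).Rel a b) :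
    IsKInjective (HomologicalComplex.double f hab) := by
  have hab' : a + 1 = b := hab
  have : CochainComplex.IsStrictlyGE (HomologicalComplex.double f hab) a := by
    rw [isStrictlyGE_iff]
    intro k hk
    exact HomologicalComplex.isZero_double_X _ _ _ (by omega) (by omega)
  have (n : ℤ) : Injective ((HomologicalComplex.double f hab).X n) := by
    by_cases h₀ : n = a
    · subst h₀; exact Injective.of_iso (HomologicalComplex.doubleXIso₀ f hab).symm inferInstance
    by_cases h₁ : n = b
    · subst h₁
      exact Injective.of_iso (HomologicalComplex.doubleXIso₁ f hab (by omega)).symm inferInstance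
    exact Injective.of_iso ((isZero_zero A).iso
      (HomologicalComplex.isZero_double_X _ _ _ h₀ h₁)) inferInstance
  exact isKInjective_of_injective _ a

lemma isKInjective_kernel_of_bounded {X Y : CochainComplex A ℤ} (p : X ⟶ Y)
    (hp : degreewiseEpiWithInjectiveKernel p) (a : ℤ) [X.IsStrictlyGE a] :
    IsKInjective (kernel p) := by
  have (n : ℤ) : Injective ((kernel p).X n) :=
    Injective.of_iso
      (asIso (kernelComparison p (HomologicalComplex.eval _ _ n))).symm (hp n).2
  have : (kernel p).IsStrictlyGE a := by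
    rw [isStrictlyGE_iff]
    intro i hi
    rw [IsZero.iff_id_eq_zero, ← cancel_mono ((kernel.ι p).f i)]
    apply (X.isZero_of_isStrictlyGE a i).eq_of_tgt
  exact isKInjective_of_injective _ a

variable [EnoughInjectives A]

lemma mono_of_llp {K L : CochainComplex A ℤ} (i : K ⟶ L) (hi : (fibK A).llp i) : Mono i := by
  refine HomologicalComplex.mono_of_mono_f _ fun n => ?_
  let J := Injective.under (K.X n)
  have hn : (ComplexShape.up ℤ).Rel (n - 1) n := show n - 1 + 1 = n by omega
  let D := HomologicalComplex.double (𝟙 J) hn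
  let φ : K ⟶ D := mkHomToDouble hn (by omega) (K.d (n - 1) n ≫ Injective.ι _) (Injective.ι _)
    (Category.comp_id _) (fun k _ => by simp)
  have hD : IsKInjective D := isKInjective_double _ _
  have hp : fibK A (0 : D ⟶ 0) := by
    have h₁ : degreewiseEpiWithInjectiveKernel (0 : D ⟶ 0) := by
      rw [degreewiseEpiWithInjectiveKernel_iff_of_isZero _ (isZero_zero _)]
      intro k
      by_cases h₀ : k = n - 1
      · subst h₀; exact Injective.of_iso (HomologicalComplex.doubleXIso₀ _ hn).symm inferInstance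
      by_cases h₁ : k = n
      · subst h₁
        exact Injective.of_iso (HomologicalComplex.doubleXIso₁ _ hn (by omega)).symm inferInstance
      exact Injective.of_iso ((isZero_zero A).iso
        (HomologicalComplex.isZero_double_X _ _ _ h₀ h₁)) inferInstance
    exact ⟨h₁, isKInjective_of_iso kernelZeroIsoSource.symm⟩
  have := hi _ hp
  have sq : CommSq φ i (0 : D ⟶ 0) 0 := ⟨by simp⟩
  have h : i.f n ≫ sq.lift.f n = φ.f n := by
    rw [← HomologicalComplex.comp_f, sq.fac_left]
  have : Mono (φ.f n) := by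
    rw [show φ.f n = _ from mkHomToDouble_f₁ ..]
    infer_instance
  exact mono_of_mono_fac h

lemma acyclic_cokernel_of_llp {K L : CochainComplex A ℤ} (i : K ⟶ L) (hi : (fibK A).llp i) :
    (cokernel i).Acyclic := by
  intro n
  set Q := cokernel i
  let J := Injective.under (cokernel (Q.d (n - 1) n))
  let ψ : Q.X n ⟶ J := cokernel.π _ ≫ Injective.ι _
  have hn : (ComplexShape.up ℤ).Rel n (n + 1) := rfl
  let E := HomologicalComplex.double (𝟙 J) hn
  let S := (HomologicalComplex.single A (ComplexShape.up ℤ) n).obj J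
  let s : S.X n ≅ J := HomologicalComplex.singleObjXSelf _ n J
  let q : E ⟶ S := HomologicalComplex.mkHomFromDouble hn (by omega) s.inv
    0 (by simp [S]) (by simp)
  have hq : degreewiseEpiWithInjectiveKernel q := by
    intro k
    by_cases h₀ : k = n
    · subst h₀
      have : IsIso (q.f k) := by
        rw [show q.f k = _ from HomologicalComplex.mkHomFromDouble_f₀ ..]; infer_instance
      exact epiWithInjectiveKernel_of_iso _
    · have hS : IsZero (S.X k) := HomologicalComplex.isZero_single_obj_X _ _ _ _ h₀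
      rw [epiWithInjectiveKernel_iff_of_isZero _ hS]
      by_cases h₁ : k = n + 1
      · subst h₁
        exact Injective.of_iso (HomologicalComplex.doubleXIso₁ _ hn (by omega)).symm inferInstance
      exact Injective.of_iso ((isZero_zero A).iso
        (HomologicalComplex.isZero_double_X _ _ _ h₀ h₁)) inferInstance
  have : CochainComplex.IsStrictlyGE E n := by
    rw [isStrictlyGE_iff]
    intro k hk
    exact HomologicalComplex.isZero_double_X _ _ _ (by omega) (by omega)
  have := hi _ ⟨hq, isKInjective_kernel_of_bounded q hq n⟩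
  let ψ' : Q ⟶ S := HomologicalComplex.mkHomToSingle ψ (fun k hk => by
    obtain rfl : k = n - 1 := by have : k + 1 = n := hk; omega
    simp [ψ])
  have sq : CommSq (0 : K ⟶ E) i q (cokernel.π i ≫ ψ') := ⟨by simp⟩
  let l : Q ⟶ E := cokernel.desc i sq.lift sq.fac_left
  have hl : l ≫ q = ψ' := by
    rw [← cancel_epi (cokernel.π i), cokernel.π_desc_assoc, sq.fac_right]
  -- `ψ` factors through the differential
  have hl₀ : l.f n ≫ (HomologicalComplex.doubleXIso₀ _ hn).hom = ψ := by
    have h := congrArg (fun φ : Q ⟶ S => φ.f n ≫ s.hom) hl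
    simpa [q, ψ', s] using h
  have hfac : Q.d n (n + 1) ≫ l.f (n + 1) ≫
      (HomologicalComplex.doubleXIso₁ (𝟙 J) hn (by omega)).hom = ψ := by
    rw [← l.comm_assoc, HomologicalComplex.double_d _ _ (by omega), Category.assoc, Category.assoc,
      Iso.inv_hom_id]
    simpa using hl₀
  rw [HomologicalComplex.exactAt_iff' _ (n - 1) n (n + 1) (by simp) (by simp),
    ShortComplex.exact_iff_mono_cokernel_desc]
  have : cokernel.desc (Q.d (n - 1) n) (Q.d n (n + 1)) (Q.d_comp_d _ _ _) ≫ (l.f (n + 1) ≫
      (HomologicalComplex.doubleXIso₁ (𝟙 J) hn (by omega)).hom) = Injective.ι _ := by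
    rw [← cancel_epi (cokernel.π _), cokernel.π_desc_assoc, hfac]
  exact @mono_of_mono_fac _ _ _ _ _ _ _ _ (Injective.ι_mono _) this

lemma llp_fibK : (fibK A).llp = monoQis A := by
  refine le_antisymm (fun K L i hi => ?_) monoQis_le_llp
  have := mono_of_llp i hi
  refine ⟨this, ?_⟩
  have h : (ShortComplex.mk _ _ (cokernel.condition i)).ShortExact :=
    { exact := ShortComplex.exact_cokernel i }
  exact (HomologicalComplex.mem_quasiIso_iff i).2 (by
    rw [quasiIso_iff]
    intro n
    rw [quasiIsoAt_iff_isIso_homologyMap]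
    have hac := acyclic_cokernel_of_llp i hi
    have h₁ : Mono (HomologicalComplex.homologyMap i n) :=
      (h.homology_exact₁ (n - 1) n (by simp)).mono_g
        ((hac (n - 1)).isZero_homology.eq_of_src _ _)
    have h₂ : Epi (HomologicalComplex.homologyMap i n) :=
      (h.homology_exact₂ n).epi_f ((hac n).isZero_homology.eq_of_tgt _ _)
    exact isIso_of_mono_of_epi _)

end Groth.Agent.DHA.KInj
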