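/-
In a Grothendieck abelian category: every acyclic quotient of a complex which is nonzero
receives a small subcomplex with nonzero acyclic image.
-/
import Mathlib.Algebra.Homology.GrothendieckAbelian
import Mathlib.Algebra.Homology.HomologySequenceLemmas
import Mathlib.CategoryTheory.Abelian.GrothendieckCategory.EnoughInjectives
import Mathlib.CategoryTheory.Abelian.GrothendieckAxioms.Colim
import Mathlib.CategoryTheory.Abelian.Refinements
import Mathlib.CategoryTheory.Functor.OfSequence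
import Mathlib.CategoryTheory.Generator.Preadditive

universe v u

open CategoryTheory CategoryTheory.Limits

namespace Groth.Agent.DHA.KInj

section QIso

variable {A : Type u} [Category.{v} A] [Abelian A]

lemma quasiIso_of_acyclic {S : ShortComplex (CochainComplex A ℤ)} (hS : S.ShortExact)
    (h : ∀ n, S.X₃.ExactAt n) : QuasiIso S.f := by
  rw [quasiIso_iff]
  intro n
  rw [quasiIsoAt_iff_isIso_homologyMap]
  have h₁ : Mono (HomologicalComplex.homologyMap S.f n) :=
    (hS.homology_exact₁ (n - 1) n (by simp)).mono_g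
      ((h (n - 1)).isZero_homology.eq_of_src _ _)
  have h₂ : Epi (HomologicalComplex.homologyMap S.f n) :=
    (hS.homology_exact₂ n).epi_f ((h n).isZero_homology.eq_of_tgt _ _)
  exact isIso_of_mono_of_epi _

lemma cok_iff {X Y W : A} (f : X ⟶ Y) (y : W ⟶ Y) :
    y ≫ cokernel.π f = 0 ↔ ∃ (W' : A) (π : W' ⟶ W) (_ : Epi π) (x : W' ⟶ X), π ≫ y = x ≫ f :=
  CokernelCofork.IsColimit.comp_π_eq_zero_iff_up_to_refinements (cokernelIsCokernel f) y

end QIso

variable {A : Type u} [Category.{v} A] [Abelian A] [IsGrothendieckAbelian.{v} A] (G : A)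

/-- index type bounding lifts along epimorphisms -/
abbrev Sz : Type v := Shrink.{v} (Subobject G)

variable {G} (hG : IsSeparator G)

include hG in
lemma epi_desc_homs (U : A) : Epi (Sigma.desc fun f : G ⟶ U => f) :=
  (isSeparator_iff_epi G).1 hG U

include hG in
/-- up to refinements, lifts along a map are controlled by `Sz G`. -/
lemma exists_lift_family {M Z : A} (p : M ⟶ Z) (a : G ⟶ Z) (ha : a ≫ cokernel.π p = 0) :
    ∃ h : Sz G → (G ⟶ M), (∀ s, ∃ e : G ⟶ G, h s ≫ p = e ≫ a) ∧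
      a ≫ cokernel.π (Sigma.desc fun s => h s ≫ p) = 0 := by
  classical
  obtain ⟨A', π, hπ, x, hx⟩ :=
    (cok_iff p a).1 ha
  have hfst : Epi (pullback.fst a p) := by
    have : pullback.lift π x hx ≫ pullback.fst a p = π := pullback.lift_fst _ _ _
    exact epi_of_epi_fac this
  let h₀ : Sz G → (G ⟶ pullback a p) := fun s =>
    if hs : ∃ k : G ⟶ pullback a p,
        imageSubobject (k ≫ pullback.fst a p) = (equivShrink _).symm s then hs.choose else 0
  refine ⟨fun s => h₀ s ≫ pullback.snd a p, fun s => ⟨h₀ s ≫ pullback.fst a p, by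
    rw [Category.assoc, Category.assoc, pullback.condition]⟩, ?_⟩
  set h' : Sz G → (G ⟶ Z) := fun s => (h₀ s ≫ pullback.snd a p) ≫ p
  have hs : ∀ s, h' s ≫ cokernel.π (Sigma.desc h') = 0 := fun s => by
    have := Sigma.ι (fun _ : Sz G => G) s ≫= cokernel.condition (Sigma.desc h')
    rwa [Sigma.ι_desc_assoc, comp_zero] at this
  have := epi_desc_homs hG (pullback a p)
  rw [← cancel_epi (pullback.fst a p), ← cancel_epi (Sigma.desc fun f : G ⟶ pullback a p => f),
    comp_zero, comp_zero]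
  refine Sigma.hom_ext _ _ fun k => ?_
  rw [Sigma.ι_desc_assoc, comp_zero]
  have hex : ∃ k' : G ⟶ pullback a p, imageSubobject (k' ≫ pullback.fst a p) =
      (equivShrink _).symm (equivShrink _ (imageSubobject (k ≫ pullback.fst a p))) :=
    ⟨k, (Equiv.symm_apply_apply _ _).symm⟩
  set s := equivShrink _ (imageSubobject (k ≫ pullback.fst a p))
  have hk' : imageSubobject (h₀ s ≫ pullback.fst a p) = imageSubobject (k ≫ pullback.fst a p) := by
    simp only [h₀, dif_pos hex]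
    exact hex.choose_spec.trans (Equiv.symm_apply_apply _ _)
  have hzero : (imageSubobject (h₀ s ≫ pullback.fst a p)).arrow ≫ a ≫
      cokernel.π (Sigma.desc h') = 0 := by
    rw [← cancel_epi (factorThruImageSubobject (h₀ s ≫ pullback.fst a p)), comp_zero,
      imageSubobject_arrow_comp_assoc, Category.assoc, pullback.condition_assoc]
    have := hs s
    simp only [h', Category.assoc] at this
    exact this
  rw [hk'] at hzero
  rw [← Category.assoc k, ← imageSubobject_arrow_comp (k ≫ pullback.fst a p), Category.assoc,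
    hzero, comp_zero]

lemma hasExactColimitsOfShape_nat :
    HasExactColimitsOfShape ℕ A :=
  HasExactColimitsOfShape.of_domain_equivalence A (J := AsSmall.{v} ℕ) (AsSmall.equiv (C := ℕ)).symm

section Subcomplex

variable (Q : CochainComplex A ℤ)

/-- index types of the stages -/
def Ty (G : A) (T : Type v) : ℕ → Type v
  | 0 => T
  | k + 1 => (Ty G T k ⊕ Ty G T k) ⊕ ((G ⟶ ∐ fun _ : Ty G T k => G) × Sz G)

/-- total index type -/
abbrev TT (G : A) (T : Type v) : Type v :=
  (T ⊕ T) ⊕ (((Σ k, Ty G T k) × Sz G) ⊕ ((Σ k, Ty G T k) × Sz G))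

variable {Q}

/-- index of an old generator -/
def inlV {G : A} {T : Type v} {k : ℕ} (a : Ty G T k) : Ty G T (k + 1) := .inl (.inl a)

/-- index of a differential of an old generator -/
def inrD {G : A} {T : Type v} {k : ℕ} (a : Ty G T k) : Ty G T (k + 1) := .inl (.inr a)

/-- index of a lift -/
def inC {G : A} {T : Type v} {k : ℕ} (c : G ⟶ ∐ fun _ : Ty G T k => G) (s : Sz G) :
    Ty G T (k + 1) := .inr (c, s)

open Classical in
/-- next stage -/
noncomputable def stepV {T : Type v} {k : ℕ}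
    (V : ∀ m : ℤ, Ty G T k → (G ⟶ Q.X m)) (m : ℤ) : Ty G T (k + 1) → (G ⟶ Q.X m)
  | .inl (.inl a) => V m a
  | .inl (.inr a) => V (m - 1) a ≫ Q.d (m - 1) m
  | .inr (c, s) =>
      if hc : (c ≫ Sigma.desc (V (m + 1))) ≫ cokernel.π (Q.d m (m + 1)) = 0 then
        (exists_lift_family hG (Q.d m (m + 1)) _ hc).choose s
      else 0

/-- all stages -/
noncomputable def stageV {T : Type v} (V₀ : ∀ m : ℤ, T → (G ⟶ Q.X m)) :
    ∀ (k : ℕ) (m : ℤ), Ty G T k → (G ⟶ Q.X m)
  | 0 => V₀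
  | k + 1 => stepV hG (stageV V₀ k)

end Subcomplex

/-- criterion for exactness of the coimage of a map of complexes -/
lemma exactAt_coimage {C Q : CochainComplex A ℤ} (f : C ⟶ Q) (m : ℤ) {F : A}
    (Φ : ∀ m, F ⟶ Q.X m) (hfΦ : ∀ m, f.f m ≫ cokernel.π (Φ m) = 0)
    (hΦf : ∀ m, Φ m ≫ cokernel.π (f.f m) = 0)
    (hkey : kernel.ι (Φ m ≫ Q.d m (m + 1)) ≫ Φ m ≫
      cokernel.π (Φ (m - 1) ≫ Q.d (m - 1) m) = 0) :
    (Abelian.coimage f).ExactAt m := by
  rw [HomologicalComplex.exactAt_iff' _ (m - 1) m (m + 1) (by simp) (by simp),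
    ShortComplex.exact_iff_exact_up_to_refinements]
  intro A₁ x hx
  change A₁ ⟶ (Abelian.coimage f).X m at x
  change x ≫ (Abelian.coimage f).d m (m + 1) = 0 at hx
  have hepi : Epi ((Abelian.coimage.π f).f m) :=
    inferInstanceAs (Epi ((HomologicalComplex.eval A _ m).map (cokernel.π (kernel.ι f))))
  have hfac : ∀ j, (Abelian.coimage.π f).f j ≫ (Abelian.factorThruCoimage f).f j = f.f j :=
    fun j => by rw [← HomologicalComplex.comp_f, Abelian.coimage.fac]
  have hmono : ∀ j, Mono ((Abelian.factorThruCoimage f).f j) := fun j =>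
    inferInstanceAs (Mono ((HomologicalComplex.eval A _ j).map (Abelian.factorThruCoimage f)))
  obtain ⟨A₂, p₂, hp₂, y, hy⟩ :=
    surjective_up_to_refinements_of_epi ((Abelian.coimage.π f).f m) x
  have hyd : (y ≫ f.f m) ≫ Q.d m (m + 1) = 0 := by
    rw [← hfac, ← Category.assoc y, ← hy, Category.assoc, Category.assoc,
      (Abelian.factorThruCoimage f).comm, reassoc_of% hx, zero_comp, comp_zero]
  obtain ⟨A₃, p₃, hp₃, z, hz⟩ :=
    (cok_iff (Φ m) (y ≫ f.f m)).1
      (by rw [Category.assoc]; exact (congrArg (y ≫ ·) (hfΦ m)).trans comp_zero)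
  have hzd : z ≫ Φ m ≫ Q.d m (m + 1) = 0 := by
    rw [← Category.assoc, ← hz, Category.assoc, hyd, comp_zero]
  have hzπ : (z ≫ Φ m) ≫ cokernel.π (Φ (m - 1) ≫ Q.d (m - 1) m) = 0 := by
    rw [← kernel.lift_ι _ z hzd, Category.assoc, Category.assoc, hkey,
      comp_zero]
  obtain ⟨A₄, p₄, hp₄, u, hu⟩ :=
    (cok_iff _ _).1 hzπ
  obtain ⟨A₅, p₅, hp₅, o, ho⟩ :=
    (cok_iff (f.f (m - 1)) (u ≫ Φ (m - 1))).1
      (by rw [Category.assoc]; exact (congrArg (u ≫ ·) (hΦf (m - 1))).trans comp_zero)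
  have h₃₂ : Epi (p₃ ≫ p₂) := @epi_comp _ _ _ _ _ p₃ hp₃ p₂ hp₂
  have h₄₃₂ : Epi (p₄ ≫ p₃ ≫ p₂) := @epi_comp _ _ _ _ _ p₄ hp₄ _ h₃₂
  refine ⟨A₅, p₅ ≫ p₄ ≫ p₃ ≫ p₂, @epi_comp _ _ _ _ _ p₅ hp₅ _ h₄₃₂, o ≫ (Abelian.coimage.π f).f (m - 1), ?_⟩
  show (p₅ ≫ p₄ ≫ p₃ ≫ p₂) ≫ x = (o ≫ _) ≫ (Abelian.coimage f).d (m - 1) m
  rw [← cancel_mono ((Abelian.factorThruCoimage f).f m)]
  simp only [Category.assoc]
  rw [← (Abelian.factorThruCoimage f).comm, reassoc_of% hfac (m - 1), reassoc_of% hy, hfac, hz,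
    hu, reassoc_of% ho]


include hG in
/-- Small subcomplexes containing a given family of generalized elements, with acyclic image in an
acyclic quotient. -/
theorem exists_small_seed {Y Q : CochainComplex A ℤ} (π : Y ⟶ Q) (hπ : ∀ m, Epi (π.f m))
    (hQ : ∀ m, Q.ExactAt m) (T : Type v) (U : ∀ m : ℤ, T → (G ⟶ Y.X m)) :
    ∃ (C : CochainComplex A ℤ) (g : C ⟶ Y), Mono g ∧
      (∀ m, ∃ e : (∐ fun _ : TT G T => G) ⟶ C.X m, Epi e) ∧
      (∀ m t, ∃ x : G ⟶ C.X m, x ≫ g.f m = U m t) ∧ QuasiIso (kernel.ι (g ≫ π)) := by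
  classical
  let V := stageV hG (Q := Q) fun m t => U m t ≫ π.f m
  -- the colimits of the stages
  let F : ℕ ⥤ A := Functor.ofSequence (X := fun k => ∐ fun _ : Ty G T k => G)
    (fun k => Sigma.desc fun a => Sigma.ι (fun _ : Ty G T (k + 1) => G) (inlV a))
  let τ : ∀ m, F ⟶ (Functor.const ℕ).obj (Q.X m) := fun m =>
    NatTrans.ofSequence (fun k => Sigma.desc (V k m)) (fun k => by
      rw [Functor.ofSequence_map_homOfLE_succ, Functor.const_obj_map]
      show (Sigma.desc fun a => Sigma.ι (fun _ : Ty G T (k + 1) => G) (inlV a)) ≫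
        Sigma.desc (V (k + 1) m) = Sigma.desc (V k m) ≫ 𝟙 (Q.X m)
      rw [Category.comp_id]
      exact Sigma.hom_ext _ _ fun a => by rw [Sigma.ι_desc_assoc, Sigma.ι_desc, Sigma.ι_desc]; rfl)
  let ιF : ∀ k, (∐ fun _ : Ty G T k => G) ⟶ colimit F := fun k => colimit.ι F k
  let Φ : ∀ m, colimit F ⟶ Q.X m := fun m => colimit.desc F (Cocone.mk _ (τ m))
  have hΦ : ∀ k m a, V k m a =
      (Sigma.ι (fun _ : Ty G T k => G) a ≫ ιF k) ≫ Φ m := fun k m a => by
    have h1 : ιF k ≫ Φ m = Sigma.desc (V k m) := colimit.ι_desc _ _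
    rw [Category.assoc, h1, Sigma.ι_desc]
  have hVd : ∀ k i j, i + 1 = j → ∀ a, ∃ b, V (k + 1) j b = V k i a ≫ Q.d i j := by
    intro k i j hij a
    obtain rfl : i = j - 1 := by omega
    exact ⟨inrD a, rfl⟩
  -- lifts to `Y`
  have hlift : ∀ (m : ℤ) (p : Σ k, Ty G T k), ∃ h : Sz G → (G ⟶ Y.X m),
      (∀ s, ∃ e : G ⟶ G, h s ≫ π.f m = e ≫ V p.1 m p.2) ∧
        V p.1 m p.2 ≫ cokernel.π (Sigma.desc fun s => h s ≫ π.f m) = 0 := fun m p =>
    exists_lift_family hG (π.f m) _ (by rw [cokernel.π_of_epi, comp_zero])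
  choose H hH₁ hH₂ using hlift
  let W : ∀ m, TT G T → (G ⟶ Y.X m) := fun m => fun
    | .inl (.inl u) => U m u
    | .inl (.inr u) => U (m - 1) u ≫ Y.d (m - 1) m
    | .inr (.inl (p, s)) => H m p s
    | .inr (.inr (p, s)) => H (m - 1) p s ≫ Y.d (m - 1) m
  let w : ∀ m, (∐ fun _ : TT G T => G) ⟶ Y.X m := fun m => Sigma.desc (W m)
  have hwd : ∀ m m', w m ≫ Y.d m m' ≫ cokernel.π (w m') = 0 := by
    intro m m'
    by_cases hmm : m + 1 = m'
    · obtain rfl : m = m' - 1 := by omega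
      refine Sigma.hom_ext _ _ fun j => ?_
      rw [Sigma.ι_desc_assoc, comp_zero]
      rcases j with (u | u) | ⟨p, s⟩ | ⟨p, s⟩
      · have := Sigma.ι (fun _ : TT G T => G) (.inl (.inr u)) ≫= cokernel.condition (w m')
        rw [Sigma.ι_desc_assoc, comp_zero] at this
        simpa [W] using this
      · simp [W]
      · have := Sigma.ι (fun _ : TT G T => G) (.inr (.inr (p, s))) ≫= cokernel.condition (w m')
        rw [Sigma.ι_desc_assoc, comp_zero] at this
        simpa [W] using this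
      · simp [W]
    · rw [Y.shape _ _ hmm, zero_comp, comp_zero]
  let ιC : ∀ m, Abelian.image (w m) ⟶ Y.X m := fun m => Abelian.image.ι (w m)
  have hd' : ∀ m m', (ιC m ≫ Y.d m m') ≫ cokernel.π (w m') = 0 := fun m m' => by
    rw [← cancel_epi (Abelian.factorThruImage (w m)), comp_zero, ← Category.assoc,
      ← Category.assoc, Abelian.image.fac, Category.assoc, hwd]
  let C : CochainComplex A ℤ :=
    { X := fun m => Abelian.image (w m)
      d := fun m m' => kernel.lift (cokernel.π (w m')) (ιC m ≫ Y.d m m') (hd' m m')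
      shape := fun m m' h => by
        rw [← cancel_mono (ιC m'), zero_comp, kernel.lift_ι, Y.shape _ _ h, comp_zero]
      d_comp_d' := fun i j k _ _ => by
        rw [← cancel_mono (ιC k), zero_comp, Category.assoc, kernel.lift_ι,
          kernel.lift_ι_assoc, Category.assoc, Y.d_comp_d, comp_zero] }
  let g : C ⟶ Y := { f := ιC, comm' := fun i j _ => (kernel.lift_ι _ _ _).symm }
  let e : ∀ m, (∐ fun _ : TT G T => G) ⟶ C.X m := fun m => Abelian.factorThruImage (w m)
  have heg : ∀ m, e m ≫ g.f m = w m := fun m => Abelian.image.fac (w m)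
  let f := g ≫ π
  have hgen : ∀ m j, (Sigma.ι (fun _ : TT G T => G) j ≫ e m) ≫ f.f m = W m j ≫ π.f m := fun m j => by
    rw [HomologicalComplex.comp_f, Category.assoc, reassoc_of% heg m, Sigma.ι_desc_assoc]
  -- the image of `f` is that of `Φ`
  have hfΦ : ∀ m, f.f m ≫ cokernel.π (Φ m) = 0 := by
    intro m
    rw [← cancel_epi (e m), comp_zero]
    refine Sigma.hom_ext _ _ fun j => ?_
    rw [comp_zero, ← Category.assoc, ← Category.assoc, hgen]
    rcases j with (u | u) | ⟨⟨k, a⟩, s⟩ | ⟨⟨k, a⟩, s⟩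
    · show (U m u ≫ π.f m) ≫ _ = 0
      rw [show U m u ≫ π.f m = _ from hΦ 0 m u, Category.assoc, Category.assoc,
        cokernel.condition, comp_zero, comp_zero]
    · obtain ⟨b, hb⟩ := hVd 0 (m - 1) m (by omega) u
      show ((U (m - 1) u ≫ Y.d (m - 1) m) ≫ π.f m) ≫ _ = 0
      rw [Category.assoc (U _ _), ← π.comm, ← Category.assoc (U _ _)]
      erw [← hb]
      rw [hΦ, Category.assoc, Category.assoc, cokernel.condition, comp_zero, comp_zero]
    · obtain ⟨q, hq⟩ := hH₁ m ⟨k, a⟩ s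
      show (H m ⟨k, a⟩ s ≫ π.f m) ≫ _ = 0
      rw [hq, hΦ, Category.assoc, Category.assoc, cokernel.condition, comp_zero, comp_zero]
    · obtain ⟨q, hq⟩ := hH₁ (m - 1) ⟨k, a⟩ s
      obtain ⟨b, hb⟩ := hVd k (m - 1) m (by omega) a
      show ((H (m - 1) ⟨k, a⟩ s ≫ Y.d (m - 1) m) ≫ π.f m) ≫ _ = 0
      rw [Category.assoc (H _ _ _), ← π.comm, ← Category.assoc (H _ _ _), hq,
        Category.assoc q, ← hb, hΦ, Category.assoc, Category.assoc, cokernel.condition,
        comp_zero, comp_zero]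
  have hVf : ∀ k m a, V k m a ≫ cokernel.π (f.f m) = 0 := by
    intro k m a
    have h0 : (Sigma.desc fun s => H m ⟨k, a⟩ s ≫ π.f m) ≫ cokernel.π (f.f m) = 0 :=
      Sigma.hom_ext _ _ fun s => by
        rw [Sigma.ι_desc_assoc, comp_zero]
        exact (congrArg (· ≫ cokernel.π (f.f m)) (hgen m (.inr (.inl (⟨k, a⟩, s)))).symm).trans
          ((Category.assoc _ _ _).trans (by rw [cokernel.condition, comp_zero]))
    obtain ⟨A', q, hq, x, hx⟩ :=
      (cok_iff _ _).1 (hH₂ m ⟨k, a⟩)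
    rw [← cancel_epi q, comp_zero, ← Category.assoc, hx, Category.assoc, h0, comp_zero]
  have hΦf : ∀ m, Φ m ≫ cokernel.π (f.f m) = 0 := by
    intro m
    refine colimit.hom_ext fun k => ?_
    show ιF k ≫ Φ m ≫ cokernel.π (f.f m) = ιF k ≫ 0
    refine Sigma.hom_ext _ _ fun a => ?_
    have := hVf k m a
    rw [hΦ, Category.assoc, Category.assoc] at this
    rw [this, comp_zero, comp_zero]
  -- key exactness
  have key : ∀ i m, i + 1 = m → kernel.ι (Φ m ≫ Q.d m (m + 1)) ≫ Φ m ≫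
      cokernel.π (Φ i ≫ Q.d i m) = 0 := by
    intro i m him
    have := hasExactColimitsOfShape_nat (A := A)
    let S : ShortComplex (ℕ ⥤ A) := ShortComplex.mk
      (kernel.ι (τ m ≫ (Functor.const ℕ).map (Q.d m (m + 1)))) _ (kernel.condition _)
    have hS : S.Exact := ShortComplex.exact_kernel _
    have hex := colim.exact_mapShortComplex (S := S) hS (colimit.isColimit S.X₁)
      (c₂ := colimit.cocone F) (colimit.isColimit F)
      (c₃ := constCocone ℕ (Q.X (m + 1))) (isColimitConstCocone ℕ (Q.X (m + 1)))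
      (colim.map S.f) (Φ m ≫ Q.d m (m + 1)) (fun k => ι_colimMap _ _)
      (fun k => by
        have h1 : colimit.ι F k ≫ Φ m = (τ m).app k := colimit.ι_desc _ _
        show colimit.ι F k ≫ Φ m ≫ Q.d m (m + 1) =
          ((τ m).app k ≫ Q.d m (m + 1)) ≫ 𝟙 _
        rw [Category.comp_id, ← Category.assoc, h1])
    obtain ⟨A', q, hq, x, hx⟩ :=
      hex.exact_up_to_refinements (kernel.ι (Φ m ≫ Q.d m (m + 1))) (kernel.condition _)
    change A' ⟶ colimit S.X₁ at x
    change q ≫ kernel.ι (Φ m ≫ Q.d m (m + 1)) = x ≫ colim.map S.f at hx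
    rw [← cancel_epi q, comp_zero, ← Category.assoc, hx, Category.assoc]
    suffices colim.map S.f ≫ Φ m ≫ cokernel.π (Φ i ≫ Q.d i m) = 0 by rw [this, comp_zero]
    refine colimit.hom_ext fun k => ?_
    have h1 : colimit.ι F k ≫ Φ m = Sigma.desc (V k m) := colimit.ι_desc _ _
    erw [ι_colimMap_assoc, comp_zero]
    let Sf : S.X₁.obj k ⟶ ∐ fun _ : Ty G T k => G := S.f.app k
    show Sf ≫ ιF k ≫ Φ m ≫ cokernel.π (Φ i ≫ Q.d i m) = 0
    rw [← Category.assoc (ιF k), show ιF k ≫ Φ m = Sigma.desc (V k m) from h1]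
    have := epi_desc_homs hG (S.X₁.obj k)
    rw [← cancel_epi (Sigma.desc fun t : G ⟶ S.X₁.obj k => t), comp_zero]
    refine Sigma.hom_ext _ _ fun t => ?_
    rw [Sigma.ι_desc_assoc, comp_zero]
    let c : G ⟶ ∐ fun _ : Ty G T k => G := t ≫ Sf
    have hc0 : (c ≫ Sigma.desc (V k m)) ≫ Q.d m (m + 1) = 0 := by
      have := congrArg (fun η => η.app k) S.zero
      change Sf ≫ Sigma.desc (V k m) ≫ Q.d m (m + 1) = 0 at this
      show ((t ≫ Sf) ≫ Sigma.desc (V k m)) ≫ Q.d m (m + 1) = 0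
      rw [Category.assoc, Category.assoc, this, comp_zero]
    have hc : (c ≫ Sigma.desc (V k m)) ≫ cokernel.π (Q.d i m) = 0 := by
      have hex' : (ShortComplex.mk (Q.d i m) (Q.d m (m + 1)) (Q.d_comp_d _ _ _)).Exact :=
        (Q.exactAt_iff' i m (m + 1) (by simp; omega) (by simp)).1 (hQ m)
      rw [cok_iff]
      exact hex'.exact_up_to_refinements _ hc0
    obtain rfl : m = i + 1 := him.symm
    obtain ⟨-, hspan⟩ := (exists_lift_family hG (Q.d i (i + 1)) _ hc).choose_spec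
    have h0 : (Sigma.desc fun s => (exists_lift_family hG (Q.d i (i + 1)) _ hc).choose s ≫
        Q.d i (i + 1)) ≫ cokernel.π (Φ i ≫ Q.d i (i + 1)) = 0 :=
      Sigma.hom_ext _ _ fun s => by
        rw [Sigma.ι_desc_assoc, comp_zero]
        have hV : V (k + 1) i (inC c s) =
            (exists_lift_family hG (Q.d i (i + 1)) _ hc).choose s := dif_pos hc
        rw [← hV, hΦ, Category.assoc (Sigma.ι _ _ ≫ ιF _), Category.assoc,
          cokernel.condition, comp_zero]
    obtain ⟨A'', q', hq', x', hx'⟩ :=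
      (cok_iff _ _).1 hspan
    show t ≫ Sf ≫ Sigma.desc (V k (i + 1)) ≫ cokernel.π (Φ i ≫ Q.d i (i + 1)) = 0
    rw [← Category.assoc t, ← Category.assoc, ← cancel_epi q', comp_zero, ← Category.assoc q', hx',
      Category.assoc, h0, comp_zero]
  -- conclusion
  have hgm : Mono g := by
    refine HomologicalComplex.mono_of_mono_f _ fun m => ?_
    exact inferInstanceAs (Mono (Abelian.image.ι (w m)))
  refine ⟨C, g, hgm, fun m => ⟨e m, inferInstanceAs (Epi (Abelian.factorThruImage (w m)))⟩,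
    fun m u => ⟨Sigma.ι (fun _ : TT G T => G) (.inl (.inl u)) ≫ e m, ?_⟩, ?_⟩
  · rw [Category.assoc, heg, Sigma.ι_desc]
  · let S : ShortComplex (CochainComplex A ℤ) :=
      ShortComplex.mk (kernel.ι f) (Abelian.coimage.π f) (cokernel.condition (kernel.ι f))
    have hS : S.ShortExact :=
      { exact := ShortComplex.exact_cokernel (kernel.ι f)
        mono_f := inferInstanceAs (Mono (kernel.ι f))
        epi_g := inferInstanceAs (Epi (cokernel.π (kernel.ι f))) }
    refine quasiIso_of_acyclic hS fun m => ?_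
    exact exactAt_coimage f m Φ hfΦ hΦf (key (m - 1) m (by omega))

include hG in
theorem exists_small {Y Q : CochainComplex A ℤ} (π : Y ⟶ Q) (hπ : ∀ m, Epi (π.f m))
    (hQ : ∀ m, Q.ExactAt m) (hQ0 : ¬ IsZero Q) :
    ∃ (C : CochainComplex A ℤ) (g : C ⟶ Y), Mono g ∧
      (∀ m, ∃ e : (∐ fun _ : TT G PUnit.{v + 1} => G) ⟶ C.X m, Epi e) ∧
      g ≫ π ≠ 0 ∧ QuasiIso (kernel.ι (g ≫ π)) := by
  classical
  obtain ⟨n₀, hn₀⟩ : ∃ n, ¬ IsZero (Q.X n) := by
    by_contra h
    push Not at h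
    exact hQ0 ((IsZero.iff_id_eq_zero _).2 (by ext n; exact (h n).eq_of_src _ _))
  obtain ⟨b, hb⟩ : ∃ b : G ⟶ Y.X n₀, b ≫ π.f n₀ ≠ 0 := by
    by_contra h
    push Not at h
    have := hπ n₀
    exact hn₀ ((IsZero.iff_id_eq_zero _).2 (by
      rw [← cancel_epi (π.f n₀), comp_zero, Category.comp_id]
      exact (Preadditive.isSeparator_iff _).1 hG _ h))
  obtain ⟨C, g, hg, he, hU, hq⟩ := exists_small_seed hG π hπ hQ PUnit
    (fun m _ => if hm : m = n₀ then b ≫ eqToHom (by rw [hm]) else 0)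
  refine ⟨C, g, hg, he, fun h0 => hb ?_, hq⟩
  obtain ⟨x, hx⟩ := hU n₀ PUnit.unit
  rw [dif_pos rfl, eqToHom_refl, Category.comp_id] at hx
  rw [← hx, Category.assoc, ← HomologicalComplex.comp_f, h0, HomologicalComplex.zero_f, comp_zero]

end Groth.Agent.DHA.KInj
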