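/-
In a Grothendieck abelian category, monomorphisms of complexes which are quasi-isomorphisms
are generated by a set, and hence admit functorial factorizations.
-/
import Groth.Agent.DHA.KInj.Small
import Groth.Agent.DHA.KInj.Fibrant
import Mathlib.Algebra.Homology.GrothendieckAbelian
import Mathlib.CategoryTheory.Abelian.GrothendieckCategory.EnoughInjectives

universe v u

open CategoryTheory CategoryTheory.Limits ZeroObject

namespace Groth.Agent.DHA.KInj

variable {A : Type u} [Category.{v} A] [Abelian A] [IsGrothendieckAbelian.{v} A]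

section Codes

variable (P : A)

/-- terms of coded complexes -/
noncomputable abbrev codeX (k : ℤ → Shrink.{v} (Subobject P)) (i : ℤ) : A :=
  cokernel ((equivShrink (Subobject P)).symm (k i)).arrow

/-- codes for complexes all of whose terms are quotients of `P` -/
def Code : Type v :=
  Σ k : ℤ → Shrink.{v} (Subobject P),
    { d : ∀ i j, codeX P k i ⟶ codeX P k j //
      (∀ i j, ¬ (ComplexShape.up ℤ).Rel i j → d i j = 0) ∧ ∀ i j l, d i j ≫ d j l = 0 }

variable {P}

/-- the coded complex -/
noncomputable def Code.cx (c : Code P) : CochainComplex A ℤ where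
  X := codeX P c.1
  d := c.2.1
  shape := c.2.2.1
  d_comp_d' i j l _ _ := c.2.2.2 i j l

variable (P)

/-- index type of the generators -/
abbrev GenIdx := Σ c : Code P, { S : Subobject c.cx // QuasiIso S.arrow }

/-- a set of mono quasi-isomorphisms -/
def gens : MorphismProperty (CochainComplex A ℤ) :=
  MorphismProperty.ofHoms (fun i : GenIdx P => i.2.1.arrow)

instance : MorphismProperty.IsSmall.{v} (gens P) := by
  dsimp [gens]
  infer_instance

lemma gens_le : gens P ≤ monoQis A := by
  rintro _ _ _ ⟨i⟩
  exact ⟨inferInstanceAs (Mono _), i.2.2⟩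

variable {P}

lemma exists_code (C : CochainComplex A ℤ) (e : ∀ i, P ⟶ C.X i) (he : ∀ i, Epi (e i)) :
    ∃ c : Code P, Nonempty (c.cx ≅ C) := by
  let k : ℤ → Shrink.{v} (Subobject P) := fun i => equivShrink _ (kernelSubobject (e i))
  have hk : ∀ i, (equivShrink (Subobject P)).symm (k i) = kernelSubobject (e i) :=
    fun i => Equiv.symm_apply_apply _ _
  let φ : ∀ i, codeX P k i ≅ C.X i := fun i => by
    refine cokernel.mapIso _ (kernel.ι (e i))
      (Subobject.isoOfEq _ _ (hk i) ≪≫ kernelSubobjectIso (e i)) (Iso.refl _) ?_ ≪≫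
      (cokernelIsCokernel _).coconePointUniqueUpToIso
        (Abelian.epiIsCokernelOfKernel _ (kernelIsKernel (e i)))
    simp
  refine ⟨⟨k, fun i j => (φ i).hom ≫ C.d i j ≫ (φ j).inv,
    fun i j h => by simp [C.shape i j h], fun i j l => by simp⟩,
    ⟨HomologicalComplex.Hom.isoOfComponents φ fun i j _ => ?_⟩⟩
  show (φ i).hom ≫ C.d i j = ((φ i).hom ≫ C.d i j ≫ (φ j).inv) ≫ (φ j).hom
  simp

lemma gens_pushouts_of_isIso {X Y : CochainComplex A ℤ} (f : X ⟶ Y) [IsIso f] :
    (gens P).pushouts f := by
  refine MorphismProperty.isomorphisms_le_pushouts _ (fun Z => ?_) _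
    (MorphismProperty.isomorphisms.infer_property f)
  obtain ⟨c, ⟨e⟩⟩ := exists_code (P := P) 0
    (fun i => 0) (fun i => ⟨fun {Z} g h _ => ((HomologicalComplex.eval A _ i).map_isZero (isZero_zero (CochainComplex A ℤ))).eq_of_src g h⟩)
  have : IsIso (⊤ : Subobject c.cx).arrow := inferInstance
  exact ⟨_, _, (⊤ : Subobject c.cx).arrow,
    MorphismProperty.ofHoms.mk (f := fun i : GenIdx P => i.2.1.arrow) ⟨c, ⊤, inferInstance⟩,
    0, this⟩

instance : MorphismProperty.HasSmallObjectArgument.{v} (gens P) := by
  obtain ⟨κ, hκ', hκ⟩ := HasCardinalLT.exists_regular_cardinal_forall.{v}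
    (fun c : Code P => Subobject c.cx)
  have : Fact κ.IsRegular := ⟨hκ'⟩
  have : Nonempty κ.ord.ToType := by simpa using hκ'.ne_zero
  have := WellFoundedLT.toOrderBot κ.ord.ToType
  exact ⟨κ, inferInstance, inferInstance,
    { preservesColimit {A' B' X Y} i hi f hf := by
        let hf' : (MorphismProperty.monomorphisms _).TransfiniteCompositionOfShape κ.ord.ToType f :=
          { toTransfiniteCompositionOfShape := hf.toTransfiniteCompositionOfShape
            map_mem j hj := by
              have := (hf.attachCells j hj).pushouts_coproducts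
              simp only [MorphismProperty.ofHoms_homFamily] at this
              refine (?_ : _ ≤ MorphismProperty.monomorphisms _) _ this
              simp only [MorphismProperty.pushouts_le_iff, MorphismProperty.coproducts_le_iff]
              exact fun _ _ _ h => (gens_le P _ h).1 }
        have (j j' : κ.ord.ToType) (φ : j ⟶ j') : Mono (hf'.F.map φ) := hf'.mem_map φ
        apply IsGrothendieckAbelian.preservesColimit_coyoneda_obj_of_mono (Y := hf'.F) (κ := κ)
        obtain ⟨S⟩ := hi
        exact Subobject.hasCardinalLT_of_mono (hκ S.1) S.2.1.arrow }⟩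

lemma llp_rlp_gens_le : (gens P).rlp.llp ≤ monoQis A := by
  rw [← llp_fibK]
  refine MorphismProperty.antitone_llp ?_
  rw [← MorphismProperty.le_llp_iff_le_rlp, llp_fibK]
  exact gens_le P

end Codes

variable {G : A} (hG : IsSeparator G)

variable (G) in
/-- the bound for generators -/
noncomputable abbrev bound : A := ∐ fun _ : TT G PUnit.{v + 1} => G

include hG in
lemma exists_pushouts {X Y : CochainComplex A ℤ} (p : X ⟶ Y) [Mono p] [QuasiIso p]
    (hp : ¬ IsIso p) :
    ∃ (X' : CochainComplex A ℤ) (i : X ⟶ X') (p' : X' ⟶ Y) (_ : (gens (bound G)).pushouts i)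
      (_ : ¬ IsIso i) (_ : Mono p'), i ≫ p' = p := by
  have hSES : (ShortComplex.mk _ _ (cokernel.condition p)).ShortExact :=
    { exact := ShortComplex.exact_cokernel p }
  obtain ⟨C, g, hg, he, hne, hqi⟩ := exists_small hG (cokernel.π p)
    (fun m => inferInstanceAs (Epi ((HomologicalComplex.eval A _ m).map (cokernel.π p))))
    (hSES.acyclic_X₃ ‹_›)
    (fun h => hp (by
      have : Epi p := Preadditive.epi_of_isZero_cokernel p h
      exact isIso_of_mono_of_epi p))
  choose e he using he
  obtain ⟨c, ⟨φ⟩⟩ := exists_code C e he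
  let ι₀ := kernel.ι (g ≫ cokernel.π p)
  let S : Subobject c.cx := Subobject.mk (ι₀ ≫ φ.inv)
  have hS : QuasiIso S.arrow := by
    rw [← Subobject.underlyingIso_hom_comp_eq_mk]
    have : QuasiIso ι₀ := hqi
    infer_instance
  have hz : (ι₀ ≫ g) ≫ cokernel.π p = 0 := by rw [Category.assoc, kernel.condition]
  let l : kernel (g ≫ cokernel.π p) ⟶ X := Abelian.monoLift p (ι₀ ≫ g) hz
  have hl : l ≫ p = ι₀ ≫ g := Abelian.monoLift_comp _ _ _
  have hpb : IsPullback l ι₀ p g := by
    refine ⟨⟨hl⟩, ⟨PullbackCone.IsLimit.mk _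
      (fun s => kernel.lift _ s.snd (by rw [← Category.assoc, ← s.condition]; simp)) ?_ ?_ ?_⟩⟩
    · intro s
      rw [← cancel_mono p, Category.assoc, hl, kernel.lift_ι_assoc, s.condition]
    · intro s
      exact kernel.lift_ι _ _ _
    · intro s m _ hm
      rw [← cancel_mono ι₀, hm, kernel.lift_ι]
  refine ⟨pushout l ι₀, pushout.inl _ _, pushout.desc p g hl, ?_, ?_, ?_, pushout.inl_desc _ _ _⟩
  · exact ⟨_, _, S.arrow, (Subobject.underlyingIso _).hom ≫ l, φ.hom ≫ pushout.inr _ _,
      MorphismProperty.ofHoms.mk (f := fun i : GenIdx (bound G) => i.2.1.arrow) ⟨c, S, hS⟩,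
      (IsPushout.of_hasPushout l ι₀).of_iso (Subobject.underlyingIso _).symm (Iso.refl _) φ.symm
        (Iso.refl _) (by simp) (by simp [S, ι₀]) (by simp) (by simp)⟩
  · intro h
    apply hne
    have e1 : inv (pushout.inl l ι₀) ≫ p = pushout.desc p g hl := by
      rw [IsIso.inv_comp_eq]; exact (pushout.inl_desc _ _ _).symm
    have e2 : g = pushout.inr l ι₀ ≫ inv (pushout.inl l ι₀) ≫ p := by
      rw [e1]; exact (pushout.inr_desc _ _ _).symm
    calc g ≫ cokernel.π p = (pushout.inr l ι₀ ≫ inv (pushout.inl l ι₀) ≫ p) ≫ cokernel.π p :=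
          congrArg (· ≫ cokernel.π p) e2
      _ = 0 := by simp
  · exact (IsPushout.of_hasPushout _ _).mono_of_isPullback_of_mono hpb _
      (pushout.inl_desc _ _ _) (pushout.inr_desc _ _ _)

variable {Y : CochainComplex A ℤ}

include hG in
lemma exists_larger (S : Subobject Y) (hS : S ≠ ⊤) (hqi : QuasiIso S.arrow) :
    ∃ (S' : Subobject Y) (h : S < S'), (gens (bound G)).pushouts (Subobject.ofLE S S' h.le) := by
  induction S using Subobject.ind with | _ f
  have : QuasiIso f := by
    rw [← Subobject.underlyingIso_arrow f]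
    infer_instance
  obtain ⟨X', i, p', hi, hi', hp', fac⟩ := exists_pushouts hG f
    (by simpa only [Subobject.isIso_iff_mk_eq_top] using hS)
  refine ⟨Subobject.mk p', Subobject.mk_lt_mk_of_comm i fac hi',
    (MorphismProperty.arrow_mk_iso_iff _ ?_).2 hi⟩
  refine Arrow.isoMk (Subobject.underlyingIso f) (Subobject.underlyingIso p') ?_
  simp [← cancel_mono p', fac]

variable (G) in
open Classical in
/-- next step in the transfinite filtration -/
noncomputable def larger (S : Subobject Y) : Subobject Y :=
  if h : ∃ (S' : Subobject Y) (h : S < S'),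
    (gens (bound G)).pushouts (Subobject.ofLE S S' h.le) then h.choose else S

lemma le_larger (S : Subobject Y) : S ≤ larger G S := by
  rw [larger]
  split_ifs with h
  · exact h.choose_spec.choose.le
  · exact le_rfl

include hG in
lemma lt_larger (S : Subobject Y) (hS : S ≠ ⊤) (hqi : QuasiIso S.arrow) : S < larger G S := by
  rw [larger, dif_pos (exists_larger hG S hS hqi)]
  exact (exists_larger hG S hS hqi).choose_spec.choose

lemma pushouts_ofLE_larger (S : Subobject Y) :
    (gens (bound G)).pushouts (Subobject.ofLE S _ (le_larger (G := G) S)) := by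
  by_cases h : ∃ (S' : Subobject Y) (h : S < S'),
      (gens (bound G)).pushouts (Subobject.ofLE S S' h.le)
  · refine (MorphismProperty.arrow_mk_iso_iff _ ?_).1 h.choose_spec.choose_spec
    exact Arrow.isoMk (Iso.refl _)
      (Subobject.isoOfEq _ _ (by simp only [larger, dif_pos h])) (by simp [← cancel_mono (Subobject.arrow _)])
  · have : IsIso (Subobject.ofLE S _ (le_larger (G := G) S)) :=
      ⟨Subobject.ofLE _ _ (by rw [larger, dif_neg h]), by simp, by simp⟩
    exact gens_pushouts_of_isIso _

variable (G) in
/-- the transfinite filtration -/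
noncomputable def filtration (S₀ : Subobject Y) (J : Type v) [LinearOrder J] [OrderBot J]
    [SuccOrder J] [WellFoundedLT J] : J ⥤ MonoOver Y where
  obj j := MonoOver.mk (transfiniteIterate (larger G) j S₀).arrow
  map {j j'} f := MonoOver.homMk (Subobject.ofLE _ _
      (monotone_transfiniteIterate _ _ (le_larger (G := G)) (leOfHom f)))

section

variable (S₀ : Subobject Y) {J : Type v} [LinearOrder J] [OrderBot J] [SuccOrder J]
  [WellFoundedLT J]

set_option backward.defeqAttrib.useBackward true in
set_option backward.isDefEq.respectTransparency.types false in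
lemma llp_rlp_ofLE (j : J) : (gens (bound G)).rlp.llp (Subobject.ofLE
    (transfiniteIterate (larger G) (⊥ : J) S₀) (transfiniteIterate (larger G) j S₀)
      (monotone_transfiniteIterate _ _ (le_larger (G := G)) bot_le)) := by
  let F : J ⥤ CochainComplex A ℤ := filtration G S₀ J ⋙ MonoOver.forget _ ⋙ Over.forget _
  have : F.IsWellOrderContinuous :=
    { nonempty_isColimit := fun m hm => ⟨by
        have := hm.nonempty_Iio.to_subtype
        let c := (Set.principalSegIio m).cocone (filtration G S₀ J ⋙ MonoOver.forget _)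
        have : Mono c.pt.hom := by dsimp [c, filtration]; infer_instance
        apply IsGrothendieckAbelian.isColimitMapCoconeOfSubobjectMkEqISup
          ((Set.principalSegIio m).monotone.functor ⋙ filtration G S₀ J) c
        dsimp [c, filtration]
        simp only [Subobject.mk_arrow]
        exact transfiniteIterate_limit (larger G) S₀ m hm⟩ }
  have t : (gens (bound G)).pushouts.TransfiniteCompositionOfShape (Set.Iic j)
      (F.map (homOfLE bot_le : ⊥ ⟶ j)) :=
    { F := (Set.initialSegIic j).monotone.functor ⋙ F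
      isoBot := Iso.refl _
      incl :=
        { app k := F.map (homOfLE k.2)
          naturality k k' h := by simp [F, MonoOver.forget, filtration] }
      isColimit := colimitOfDiagramTerminal isTerminalTop _
      map_mem k hk := by
        dsimp [F, MonoOver.forget, filtration]
        convert! pushouts_ofLE_larger (G := G) (transfiniteIterate (larger G) k.1 S₀) using 2
        all_goals
          rw [Set.Iic.succ_eq_of_not_isMax hk,
            transfiniteIterate_succ _ _ _ (Set.not_isMax_coe _ hk)] }
  have := (gens (bound G)).pushouts.transfiniteCompositionsOfShape_le_llp_rlp _ _ t.mem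
  rw [MorphismProperty.rlp_pushouts] at this
  exact this

include hG in
lemma exists_eq_top (h₀ : QuasiIso S₀.arrow)
    (H : ¬ Function.Injective (fun (j : J) ↦ transfiniteIterate (larger G) j S₀)) :
    ∃ j : J, transfiniteIterate (larger G) j S₀ = ⊤ := by
  obtain ⟨j₁, j₂, hj, eq⟩ : ∃ (j₁ j₂ : J) (hj : j₁ < j₂),
      transfiniteIterate (larger G) j₁ S₀ = transfiniteIterate (larger G) j₂ S₀ := by
    grind [Function.Injective]
  refine ⟨j₁, ?_⟩
  by_contra hne
  have hq : QuasiIso (transfiniteIterate (larger G) j₁ S₀).arrow := by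
    have h₁ := (llp_rlp_gens_le _ (llp_rlp_ofLE (G := G) S₀ j₁)).2
    rw [HomologicalComplex.mem_quasiIso_iff] at h₁
    rw [← quasiIso_iff_comp_left (Subobject.ofLE (transfiniteIterate (larger G) (⊥ : J) S₀)
      (transfiniteIterate (larger G) j₁ S₀)
      (monotone_transfiniteIterate _ _ (le_larger (G := G)) bot_le)), Subobject.ofLE_arrow,
      transfiniteIterate_bot]
    exact h₀
  suffices transfiniteIterate (larger G) j₁ S₀ < transfiniteIterate (larger G) j₂ S₀ by
    simp only [eq, lt_self_iff_false] at this
  have hj₁ : ¬ IsMax j₁ := not_isMax_iff.2 ⟨_, hj⟩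
  refine lt_of_lt_of_le (lt_larger hG _ hne hq) ?_
  rw [← transfiniteIterate_succ (larger G) S₀ j₁ hj₁]
  exact monotone_transfiniteIterate _ _ (le_larger (G := G)) (Order.succ_le_of_lt hj)

end

include hG in
theorem monoQis_le_llp_rlp_gens : monoQis A ≤ (gens (bound G)).rlp.llp := by
  rintro X Y f ⟨hf, hf'⟩
  have : Mono f := hf
  have : QuasiIso f := hf'
  let κ := Order.succ (Cardinal.mk (Shrink.{v} (Subobject Y)))
  have : Nonempty κ.ord.ToType := by simp [κ]
  have := WellFoundedLT.toOrderBot κ.ord.ToType
  have hinj : ¬ Function.Injective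
      (fun (j : κ.ord.ToType) ↦ transfiniteIterate (larger G) j (Subobject.mk f)) := fun h => by
    have h' := Cardinal.mk_le_of_injective ((equivShrink.{v} (Subobject Y)).injective.comp h)
    simp [κ] at h'
  have h₀ : QuasiIso (Subobject.mk f).arrow := by
    rw [← Subobject.underlyingIso_hom_comp_eq_mk]
    infer_instance
  obtain ⟨j, hj⟩ := exists_eq_top hG (Subobject.mk f) h₀ hinj
  have := (Subobject.isIso_arrow_iff_eq_top _).2 hj
  refine (MorphismProperty.arrow_mk_iso_iff _ ?_).1 (llp_rlp_ofLE (G := G) (Subobject.mk f) j)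
  refine Arrow.isoMk (Subobject.isoOfEq _ _ (transfiniteIterate_bot _ _) ≪≫
    Subobject.underlyingIso f) (asIso (Subobject.arrow _)) ?_
  simp

theorem llp_rlp_gens : (gens (bound (separator A))).rlp.llp = monoQis A :=
  le_antisymm llp_rlp_gens_le (monoQis_le_llp_rlp_gens (isSeparator_separator A))

instance : MorphismProperty.HasFunctorialFactorization (monoQis A) (monoQis A).rlp := by
  rw [← llp_rlp_gens, MorphismProperty.rlp_llp_rlp]
  infer_instance

end Groth.Agent.DHA.KInj
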