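/-
The derived category of a Grothendieck abelian category has a perfect family of generators.
-/
import Groth.Agent.DHA.KInjectiveResolution
import Groth.Agent.DHA.KInj.Products
import Groth.Agent.DHA.Brown.Basic
import Groth.Agent.DHA.Telescope

universe v u

open CategoryTheory CategoryTheory.Limits ZeroObject

namespace Groth.Agent.DHA.KInj

variable {A : Type u} [Category.{v} A] [Abelian A] [IsGrothendieckAbelian.{v} A]

/-- copower of a generator -/
noncomputable abbrev pow (G : A) (T : Type v) : A := ∐ fun _ : T => G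

/-- terms are quotients of `pow G T` -/
def Cov (G : A) (T : Type v) (C : CochainComplex A ℤ) : Prop :=
  ∀ m, ∃ e : pow G T ⟶ C.X m, Epi e

/-- index type bounding subquotients -/
abbrev sub (G : A) (T : Type v) : Type v :=
  Σ S : Shrink.{v} (Subobject (pow G T)), (G ⟶ ((equivShrink (Subobject (pow G T))).symm S : A))

/-- levels -/
def lvl (G : A) : ℕ → Type v
  | 0 => PUnit
  | k + 1 => sub G (TT G (lvl G k))

variable {G : A}

lemma Cov.of_epi {T : Type v} {C C' : CochainComplex A ℤ} (h : Cov G T C) (f : C ⟶ C') [Epi f] :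
    Cov G T C' := fun m => by
  obtain ⟨e, he⟩ := h m
  have : Epi (f.f m) := inferInstanceAs (Epi ((HomologicalComplex.eval A _ m).map f))
  exact ⟨e ≫ f.f m, inferInstance⟩

lemma cofan_desc_eq {B : Type*} [Category B] {Z : ℕ → B} [HasCoproduct Z] {W : B}
    (f : ∀ n, Z n ⟶ W) :
    Cofan.IsColimit.desc (coproductIsCoproduct Z) f = Sigma.desc f :=
  Sigma.hom_ext _ _ fun n => (Cofan.IsColimit.fac (coproductIsCoproduct Z) f n).trans
    (Sigma.ι_desc f n).symm

variable (hG : IsSeparator G)

include hG in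
lemma Cov.of_mono {T : Type v} {C C' : CochainComplex A ℤ} (h : Cov G T C) (i : C' ⟶ C) [Mono i] :
    Cov G (sub G T) C' := fun m => by
  classical
  obtain ⟨e, he⟩ := h m
  have : Mono (i.f m) := inferInstanceAs (Mono ((HomologicalComplex.eval A _ m).map i))
  let S := Subobject.mk (pullback.snd (i.f m) e)
  let s : Shrink.{v} (Subobject (pow G T)) := equivShrink (Subobject (pow G T)) S
  have hs : (equivShrink (Subobject (pow G T))).symm s = S := Equiv.symm_apply_apply _ _
  let q : ((equivShrink (Subobject (pow G T))).symm s : A) ⟶ C'.X m :=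
    (Subobject.isoOfEq _ _ hs ≪≫ Subobject.underlyingIso _).hom ≫ pullback.fst (i.f m) e
  have : Epi q := epi_comp _ _
  have := epi_desc_homs hG ((equivShrink (Subobject (pow G T))).symm s : A)
  let e' : pow G (sub G T) ⟶ C'.X m := Sigma.desc fun p =>
    if hp : p.1 = s then p.2 ≫ eqToHom (by rw [hp]) ≫ q else 0
  refine ⟨e', epi_of_epi_fac (f := Sigma.desc fun h : G ⟶ ((equivShrink (Subobject (pow G T))).symm s : A) =>
    Sigma.ι (fun _ : sub G T => G) ⟨s, h⟩)
    (h := Sigma.desc (fun h : G ⟶ ((equivShrink (Subobject (pow G T))).symm s : A) => h) ≫ q) ?_⟩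
  refine Sigma.hom_ext _ _ fun h => ?_
  rw [Sigma.ι_desc_assoc, Sigma.ι_desc_assoc, Sigma.ι_desc, dif_pos rfl, eqToHom_refl,
    Category.id_comp]

include hG in
lemma exists_small_factor {T : Type v} {C M I : CochainComplex A ℤ} (hC : Cov G T C) (j : M ⟶ I)
    [Mono j] [QuasiIso j] (f : C ⟶ I) :
    ∃ (C'' C' : CochainComplex A ℤ) (l₀ : C ⟶ C'') (ι : C' ⟶ C'') (g : C'' ⟶ I) (l : C' ⟶ M),
      Cov G (sub G (TT G T)) C' ∧ QuasiIso ι ∧ l₀ ≫ g = f ∧ ι ≫ g = l ≫ j := by
  choose e he using hC
  have hSES : (ShortComplex.mk _ _ (cokernel.condition j)).ShortExact :=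
    { exact := ShortComplex.exact_cokernel j }
  obtain ⟨C'', g, hg, hcov, hU, hqi⟩ := exists_small_seed hG (cokernel.π j)
    (fun m => inferInstanceAs (Epi ((HomologicalComplex.eval A _ m).map (cokernel.π j))))
    (hSES.acyclic_X₃ ‹_›) T (fun m t => Sigma.ι (fun _ : T => G) t ≫ e m ≫ f.f m)
  have hf : f ≫ cokernel.π g = 0 := by
    ext m
    have := he m
    rw [← cancel_epi (e m), HomologicalComplex.comp_f, HomologicalComplex.zero_f, comp_zero]
    refine Sigma.hom_ext _ _ fun t => ?_
    obtain ⟨x, hx⟩ := hU m t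
    rw [comp_zero, ← Category.assoc (e m), ← Category.assoc, ← hx, Category.assoc,
      ← HomologicalComplex.comp_f, cokernel.condition, HomologicalComplex.zero_f, comp_zero]
  let ι₀ := kernel.ι (g ≫ cokernel.π j)
  have hz : (ι₀ ≫ g) ≫ cokernel.π j = 0 := by rw [Category.assoc, kernel.condition]
  exact ⟨C'', _, Abelian.monoLift g f hf, ι₀, g, Abelian.monoLift j (ι₀ ≫ g) hz,
    Cov.of_mono hG hcov ι₀, hqi, Abelian.monoLift_comp _ _ _,
    (Abelian.monoLift_comp _ _ _).symm⟩

lemma cov_single (m : ℤ) :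
    Cov G (lvl G 0) ((HomologicalComplex.single A (ComplexShape.up ℤ) m).obj G) := fun i => by
  by_cases h : i = m
  · subst h
    refine ⟨Sigma.desc (fun _ => 𝟙 G) ≫ (HomologicalComplex.singleObjXSelf _ i G).inv, ?_⟩
    have : Epi (Sigma.desc fun _ : lvl G 0 => 𝟙 G) :=
      epi_of_epi_fac (f := Sigma.ι (fun _ : lvl G 0 => G) PUnit.unit) (h := 𝟙 G) (Sigma.ι_desc _ _)
    exact epi_comp _ _
  · exact ⟨0, ⟨fun a b _ => (HomologicalComplex.isZero_single_obj_X _ _ _ _ h).eq_of_src a b⟩⟩

section

variable [HasDerivedCategory.{v} A]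

open DerivedCategory

include hG in
lemma exactAt_of_hom_single_eq_zero (K : CochainComplex A ℤ) (n : ℤ)
    (h : ∀ φ : Q.obj ((HomologicalComplex.single A (ComplexShape.up ℤ) n).obj G) ⟶ Q.obj K, φ = 0) :
    K.ExactAt n := by
  rw [HomologicalComplex.exactAt_iff_isZero_homology]
  suffices K.homologyπ n = 0 by exact IsZero.of_epi_eq_zero _ this
  refine (Preadditive.isSeparator_iff _).1 hG _ fun a => ?_
  let S := (HomologicalComplex.single A (ComplexShape.up ℤ) n).obj G
  let x : G ⟶ K.X n := a ≫ K.iCycles n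
  let f : S ⟶ K := HomologicalComplex.mkHomFromSingle x (fun j _ => by simp [x])
  let s : G ⟶ S.cycles n := S.liftCycles (HomologicalComplex.singleObjXSelf _ n G).inv (n + 1)
    (by simp) (by simp [S])
  have hs : s ≫ HomologicalComplex.cyclesMap f n = a := by
    rw [← cancel_mono (K.iCycles n)]
    simp [s, f, x, S]
  have h0 : HomologicalComplex.homologyMap f n = 0 := by
    change (HomologicalComplex.homologyFunctor A (ComplexShape.up ℤ) n).map f = 0
    rw [← cancel_epi ((homologyFunctorFactors A n).hom.app S)]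
    erw [← (homologyFunctorFactors A n).hom.naturality f]
    show (homologyFunctor A n).map (Q.map f) ≫ _ = _
    rw [h (Q.map f), Functor.map_zero, zero_comp, comp_zero]
  rw [← hs, Category.assoc, ← HomologicalComplex.homologyπ_naturality, h0, comp_zero, comp_zero]

/-- indices of the perfect family -/
abbrev genι (G : A) : Type v := Σ k : ℕ, Code (pow G (lvl G k))

variable (G) in
/-- the perfect family -/
noncomputable abbrev gen (i : genι G) : DerivedCategory A := Q.obj i.2.cx

lemma exists_gen_iso {k : ℕ} {C : CochainComplex A ℤ} (hC : Cov G (lvl G k) C) :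
    ∃ c : Code (pow G (lvl G k)), Nonempty (c.cx ≅ C) := by
  choose e he using hC
  exact exists_code C e he

lemma hasCoproducts_derived : HasCoproducts.{v} (DerivedCategory A) := fun J => ⟨fun F =>
  have := hasCoproduct_of_enough_kInjective
    (fun K => ⟨_, (resolutionι A).app K, inferInstance, inferInstance⟩) (F.obj ∘ Discrete.mk)
  hasColimit_of_iso (Discrete.natIsoFunctor : F ≅ Discrete.functor (F.obj ∘ Discrete.mk))⟩

lemma hasCoproducts_derived_nat : HasColimitsOfShape (Discrete ℕ) (DerivedCategory A) := ⟨fun F =>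
  have := hasCoproduct_of_enough_kInjective
    (fun K => ⟨_, (resolutionι A).app K, inferInstance, inferInstance⟩) (F.obj ∘ Discrete.mk)
  hasColimit_of_iso (Discrete.natIsoFunctor : F ≅ Discrete.functor (F.obj ∘ Discrete.mk))⟩

variable [HasColimitsOfShape (Discrete ℕ) (DerivedCategory A)]

include hG in
theorem isPerfect_gen : Brown.IsPerfect (Brown.shifts (gen G)) := by
  classical
  refine Brown.isPerfect_shifts (gen G) (fun X hX => ?_) fun X ⟨k, c⟩ α => ?_
  · let K := Q.objPreimage X
    let e := Q.objObjPreimageIso X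
    have hK : ∀ n, K.ExactAt n := fun n => exactAt_of_hom_single_eq_zero hG K n fun φ => by
      obtain ⟨c, ⟨ec⟩⟩ := exists_gen_iso (cov_single (G := G) n)
      have := hX ⟨0, c⟩ 0 (Q.map ec.hom ≫ φ ≫ e.hom ≫ (shiftFunctorZero _ ℤ).inv.app X)
      rw [← cancel_epi (Q.map ec.hom), ← cancel_mono (e.hom ≫ (shiftFunctorZero _ ℤ).inv.app X)]
      simpa only [zero_comp, comp_zero, Category.assoc] using this
    refine IsZero.of_iso ?_ e.symm
    have hf : QuasiIso (0 : K ⟶ 0) := quasiIso_of_acyclic_both _ hK fun n =>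
      ShortComplex.exact_of_isZero_X₂ _ ((HomologicalComplex.eval A _ n).map_isZero (isZero_zero _))
    exact IsZero.of_iso (Functor.map_isZero Q (isZero_zero _)) (asIso (Q.map (0 : K ⟶ 0)))
  · let K : ℕ → CochainComplex A ℤ := fun n => Q.objPreimage (X n)
    let eX : ∀ n, Q.obj (K n) ≅ X n := fun n => Q.objObjPreimageIso (X n)
    have hres : ∀ M : CochainComplex A ℤ, ∃ (I : CochainComplex A ℤ) (f : M ⟶ I),
        I.IsKInjective ∧ QuasiIso f :=
      fun M => ⟨_, (resolutionι A).app M, inferInstance, inferInstance⟩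
    obtain ⟨hcK⟩ := nonempty_isColimit_Q hres K
    let e : ∐ X ⟶ Q.obj (∐ K) := Sigma.desc fun n => (eX n).inv ≫ Q.map (Sigma.ι K n)
    let d : Q.obj (∐ K) ⟶ ∐ X := Cofan.IsColimit.desc hcK fun n => (eX n).hom ≫ Sigma.ι X n
    have hιd : ∀ n, Q.map (Sigma.ι K n) ≫ d = (eX n).hom ≫ Sigma.ι X n :=
      fun n => Cofan.IsColimit.fac hcK _ n
    have hed : e ≫ d = 𝟙 _ := Sigma.hom_ext _ _ fun n => by
      rw [Sigma.ι_desc_assoc, Category.assoc, hιd, Iso.inv_hom_id_assoc, Category.comp_id]
    let j := (resolutionι A).app (∐ K)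
    have : Mono j := inferInstanceAs (Mono ((resolutionι A).app (∐ K)))
    have : QuasiIso j := inferInstanceAs (QuasiIso ((resolutionι A).app (∐ K)))
    obtain ⟨f, hf⟩ := Q_map_surjective c.cx ((resolution A).obj (∐ K)) (α ≫ e ≫ Q.map j)
    have hcov : Cov G (lvl G k) c.cx := fun m => ⟨cokernel.π _,
      inferInstanceAs (Epi (cokernel.π ((equivShrink (Subobject (pow G (lvl G k)))).symm (c.1 m)).arrow))⟩
    obtain ⟨C'', C', l₀, ι, g, l, hC', hι, hl₀, hl⟩ := exists_small_factor hG hcov j f
    let φ : Q.obj c.cx ⟶ Q.obj C' := Q.map l₀ ≫ inv (Q.map ι)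
    have hφ : φ ≫ Q.map l = α ≫ e := by
      have : IsIso (Q.map j) := inferInstance
      rw [← cancel_mono (Q.map j)]
      simp only [φ, Category.assoc]
      erw [← Functor.map_comp Q l]
      rw [← hl, Functor.map_comp, IsIso.inv_hom_id_assoc, ← Functor.map_comp, hl₀]
      exact hf
    let p : ∀ n, C' ⟶ K n := fun n => l ≫ Sigma.desc (Pi.single n (𝟙 (K n)))
    let Cn : ℕ → CochainComplex A ℤ := fun n => Abelian.image (p n)
    let ιn : ∀ n, Cn n ⟶ K n := fun n => Abelian.image.ι (p n)
    have hιn : ∀ n, ιn n ≫ cokernel.π (p n) = 0 := fun n => kernel.condition _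
    have hproj : ∀ n, Limits.Sigma.map ιn ≫ Sigma.desc (Pi.single n (𝟙 (K n))) =
        Sigma.desc (Pi.single n (𝟙 (Cn n))) ≫ ιn n := fun n => Sigma.hom_ext _ _ fun i => by
      rw [Sigma.ι_map_assoc, Sigma.ι_desc, Sigma.ι_desc_assoc]
      by_cases h : i = n
      · subst h; rw [Pi.single_eq_same, Pi.single_eq_same, Category.comp_id, Category.id_comp]
      · rw [Pi.single_eq_of_ne h, Pi.single_eq_of_ne h, comp_zero, zero_comp]
    have hN := hasExactColimitsOfShape_nat (A := CochainComplex A ℤ)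
    have : Mono (Limits.Sigma.map ιn) := Preadditive.mono_of_cancel_zero _ fun x hx =>
      Telescope.eq_zero_of_proj (coproductIsCoproduct Cn) x fun n => by
        have : Mono (ιn n) := inferInstanceAs (Mono (Abelian.image.ι (p n)))
        refine (cancel_mono (ιn n)).1 ?_
        rw [cofan_desc_eq, Category.assoc, zero_comp]
        exact (congrArg (x ≫ ·) (hproj n).symm).trans
          ((Category.assoc _ _ _).symm.trans (by rw [hx, zero_comp]))
    have hlift : l ≫ cokernel.π (Limits.Sigma.map ιn) = 0 := by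
      let π' := fun n => cokernel.π (ιn n)
      let h : ∐ (fun n => cokernel (ιn n)) ⟶ cokernel (Limits.Sigma.map ιn) :=
        Sigma.desc fun n => cokernel.desc (ιn n) (Sigma.ι K n ≫ cokernel.π _)
          (by rw [← Sigma.ι_map_assoc, cokernel.condition, comp_zero])
      have h₁ : Limits.Sigma.map π' ≫ h = cokernel.π _ := Sigma.hom_ext _ _ fun n => by
        rw [Sigma.ι_map_assoc, Sigma.ι_desc, cokernel.π_desc]
      suffices l ≫ Limits.Sigma.map π' = 0 by rw [← h₁, reassoc_of% this, zero_comp]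
      refine Telescope.eq_zero_of_proj (coproductIsCoproduct fun n => cokernel (ιn n)) _ fun n => ?_
      have h₂ : Limits.Sigma.map π' ≫
          Cofan.IsColimit.desc (coproductIsCoproduct fun n => cokernel (ιn n))
            (Pi.single n (𝟙 (cokernel (ιn n)))) =
          Sigma.desc (Pi.single n (𝟙 (K n))) ≫ π' n := Sigma.hom_ext _ _ fun i => by
        rw [Sigma.ι_map_assoc, Sigma.ι_desc_assoc]
        erw [Cofan.IsColimit.fac]
        by_cases hi : i = n
        · subst hi; rw [Pi.single_eq_same, Pi.single_eq_same, Category.comp_id, Category.id_comp]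
        · rw [Pi.single_eq_of_ne hi, Pi.single_eq_of_ne hi, comp_zero, zero_comp]
      rw [Category.assoc, h₂, ← Category.assoc]
      show p n ≫ cokernel.π (ιn n) = 0
      rw [← Abelian.image.fac (p n), Category.assoc, cokernel.condition, comp_zero]
    let l' : C' ⟶ ∐ Cn := Abelian.monoLift (Limits.Sigma.map ιn) l hlift
    have hl' : l' ≫ Limits.Sigma.map ιn = l := Abelian.monoLift_comp _ _ _
    have hcodes : ∀ n, ∃ c' : Code (pow G (lvl G (k + 1))), Nonempty (c'.cx ≅ Cn n) := fun n => by
      have : Epi (Abelian.factorThruImage (p n)) := inferInstance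
      exact exists_gen_iso (k := k + 1) (Cov.of_epi hC' (Abelian.factorThruImage (p n)))
    choose cn ecn using hcodes
    obtain ⟨hcC⟩ := nonempty_isColimit_Q hres Cn
    let js : ℕ → genι G := fun n => ⟨k + 1, cn n⟩
    let δ : Q.obj (∐ Cn) ⟶ ∐ (fun n => gen G (js n)) := Cofan.IsColimit.desc hcC fun n =>
      Q.map (ecn n).some.inv ≫ Sigma.ι (fun n => gen G (js n)) n
    let β : ∀ n, gen G (js n) ⟶ X n := fun n =>
      Q.map ((ecn n).some.hom ≫ ιn n) ≫ (eX n).hom
    refine ⟨js, β, φ ≫ Q.map l' ≫ δ, ?_⟩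
    have hδ : δ ≫ Limits.Sigma.map β = Q.map (Limits.Sigma.map ιn) ≫ d :=
      Cofan.IsColimit.hom_ext hcC _ _ fun n => by
        show Q.map (Sigma.ι Cn n) ≫ _ = Q.map (Sigma.ι Cn n) ≫ _
        rw [← Functor.map_comp_assoc, Sigma.ι_map, Functor.map_comp_assoc, hιd]
        have hf1 : Q.map (Sigma.ι Cn n) ≫ δ =
            Q.map (ecn n).some.inv ≫ Sigma.ι (fun n => gen G (js n)) n :=
          Cofan.IsColimit.fac hcC _ n
        rw [reassoc_of% hf1, Sigma.ι_map]
        simp [β]
    simp only [Category.assoc]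
    rw [hδ, ← Functor.map_comp_assoc, hl', show φ ≫ Q.map l ≫ d = (α ≫ e) ≫ d from
      (Category.assoc _ _ _).symm.trans (congrArg (· ≫ d) hφ), Category.assoc, hed, Category.comp_id]

end

end Groth.Agent.DHA.KInj
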