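/-
Limits of towers of K-injective complexes with termwise split surjective transition maps.
-/
import Mathlib.Algebra.Homology.HomotopyCategory.KInjective
import Mathlib.Algebra.Homology.HomologicalComplexLimits
import Mathlib.CategoryTheory.Functor.OfSequence

universe v u

open CategoryTheory CategoryTheory.Limits Opposite CochainComplex.HomComplex

namespace Groth.Agent.DHA.KInj

variable {A : Type u} [Category.{v} A] [Abelian A]

/-- one step: correct a homotopy so that it lies over a given one -/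
lemma exists_homotopy_over {K I J : CochainComplex A ℤ} [J.IsKInjective] (hK : K.Acyclic)
    [I.IsKInjective] (p : I ⟶ J) (hp : ∀ m, IsSplitEpi (p.f m)) (f : K ⟶ I)
    (h : Cochain K J (-1)) (hh : δ (-1) 0 h = Cochain.ofHom (f ≫ p)) :
    ∃ h' : Cochain K I (-1), δ (-1) 0 h' = Cochain.ofHom f ∧
      h'.comp (Cochain.ofHom p) (add_zero _) = h := by
  obtain ⟨h₁, hh₁⟩ := Cochain.equivHomotopy _ _ (CochainComplex.IsKInjective.homotopyZero f hK)
  simp only [Cochain.ofHom_zero, add_zero] at hh₁
  have hz : δ (-1) 0 (h₁.comp (Cochain.ofHom p) (add_zero _) - h) = 0 := by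
    rw [δ_sub, hh, δ_comp_zero_cochain _ _ 0 (by simp), δ_ofHom, ← hh₁]
    simp
  obtain ⟨c, hc⟩ := CochainComplex.IsKInjective.eq_δ_of_cocycle
    (Cocycle.mk _ 0 (by simp) hz) hK (-2) (by simp)
  let c' : Cochain K I (-2) := Cochain.mk fun p' q hpq =>
    haveI := hp q
    c.v p' q hpq ≫ section_ (p.f q)
  have hc' : c'.comp (Cochain.ofHom p) (add_zero _) = c := by
    ext p' q hpq
    simp [c', Cochain.comp_v _ _ (add_zero (-2)) p' q q hpq (by simp)]
  refine ⟨h₁ - δ (-2) (-1) c', ?_, ?_⟩
  · rw [δ_sub, δ_δ, sub_zero, ← hh₁]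
  · rw [Cochain.sub_comp, ← δ_comp_ofHom, hc', hc]
    simp

theorem isKInjective_limit_tower [HasLimitsOfShape ℕᵒᵖ A] (I : ℕᵒᵖ ⥤ CochainComplex A ℤ)
    (h1 : ∀ n : ℕ, (I.obj (op n)).IsKInjective)
    (h2 : ∀ (n : ℕ) (m : ℤ), IsSplitEpi ((I.map (homOfLE (Nat.le_succ n)).op).f m)) :
    (limit I).IsKInjective where
  nonempty_homotopy_zero {K} f hK := by
    classical
    let g : ∀ n, K ⟶ I.obj (op n) := fun n => f ≫ limit.π I (op n)
    let p : ∀ n, I.obj (op (n + 1)) ⟶ I.obj (op n) := fun n => I.map (homOfLE (Nat.le_succ n)).op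
    have hg : ∀ n, g (n + 1) ≫ p n = g n := fun n => by simp [g, p]
    have hstep : ∀ n (h : { h : Cochain K (I.obj (op n)) (-1) // δ (-1) 0 h = Cochain.ofHom (g n) }),
        ∃ h' : { h' : Cochain K (I.obj (op (n + 1))) (-1) // δ (-1) 0 h' = Cochain.ofHom (g (n + 1)) },
          h'.1.comp (Cochain.ofHom (p n)) (add_zero _) = h.1 := fun n h => by
      have := h1 n
      have := h1 (n + 1)
      obtain ⟨h', a, b⟩ := exists_homotopy_over hK (p n) (fun m => h2 n m) (g (n + 1)) h.1
        (by rw [h.2, hg])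
      exact ⟨⟨h', a⟩, b⟩
    have h₀ : { h : Cochain K (I.obj (op 0)) (-1) // δ (-1) 0 h = Cochain.ofHom (g 0) } :=
      have := h1 0
      ⟨(Cochain.equivHomotopy _ _ (CochainComplex.IsKInjective.homotopyZero (g 0) hK)).1, by
        have h := (Cochain.equivHomotopy _ _ (CochainComplex.IsKInjective.homotopyZero (g 0) hK)).2
        simp only [Cochain.ofHom_zero, add_zero] at h
        exact h.symm⟩
    choose next hnext using hstep
    let H : ∀ n, { h : Cochain K (I.obj (op n)) (-1) // δ (-1) 0 h = Cochain.ofHom (g n) } :=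
      fun n => Nat.rec h₀ next n
    have hH : ∀ n, (H (n + 1)).1.comp (Cochain.ofHom (p n)) (add_zero _) = (H n).1 :=
      fun n => hnext n (H n)
    have hHv : ∀ n p' q (hpq : p' + (-1 : ℤ) = q),
        (H (n + 1)).1.v p' q hpq ≫ (p n).f q = (H n).1.v p' q hpq := fun n p' q hpq => by
      have := Cochain.congr_v (hH n) p' q hpq
      rwa [Cochain.comp_v _ _ (add_zero (-1)) p' q q hpq (by simp), Cochain.ofHom_v] at this
    let hq := fun q => isLimitOfPreserves (HomologicalComplex.eval A (ComplexShape.up ℤ) q)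
      (limit.isLimit I)
    let cone : ∀ p' q (hpq : p' + (-1 : ℤ) = q),
        Cone (I ⋙ HomologicalComplex.eval A (ComplexShape.up ℤ) q) := fun p' q hpq =>
      Cone.mk (K.X p') (NatTrans.ofOpSequence (fun n => (H n).1.v p' q hpq) (fun n => by
        show 𝟙 (K.X p') ≫ (H n).1.v p' q hpq = _
        rw [Category.id_comp, ← hHv n p' q hpq]
        rfl))
    let Hinf : Cochain K (limit I) (-1) := Cochain.mk fun p' q hpq => (hq q).lift (cone p' q hpq)
    have hπ : ∀ n, Hinf.comp (Cochain.ofHom (limit.π I (op n))) (add_zero _) = (H n).1 := fun n => by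
      ext p' q hpq
      rw [Cochain.comp_v _ _ (add_zero (-1)) p' q q hpq (by simp), Cochain.ofHom_v]
      exact (hq q).fac (cone p' q hpq) (op n)
    have hδ : δ (-1) 0 Hinf = Cochain.ofHom f := by
      ext m
      refine (hq m).hom_ext fun n => ?_
      obtain ⟨n⟩ := n
      have := Cochain.congr_v (show (δ (-1) 0 Hinf).comp (Cochain.ofHom (limit.π I (op n)))
          (add_zero _) = Cochain.ofHom (g n) by rw [← δ_comp_ofHom, hπ, (H n).2]) m m (add_zero m)
      rw [Cochain.comp_v _ _ (add_zero 0) m m m (add_zero m) (by simp), Cochain.ofHom_v,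
        Cochain.ofHom_v] at this
      rw [Cochain.ofHom_v]
      exact this.trans (HomologicalComplex.comp_f f (limit.π I (op n)) m)
    exact ⟨(Cochain.equivHomotopy f 0).symm ⟨Hinf, by simp [hδ]⟩⟩

end Groth.Agent.DHA.KInj
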